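import Groth.Agent.FlatCrit.Tor
import Mathlib.RingTheory.Ideal.AssociatedPrime.Finiteness
import Mathlib.RingTheory.Flat.Stability
import Mathlib.RingTheory.Localization.BaseChange
import Mathlib.RingTheory.Flat.Localization

/-!
# EGA IV 11.4.9: flatness from flatness mod a nilpotent ideal and at associated primes
-/

set_option autoImplicit false
set_option backward.isDefEq.respectTransparency false
set_option linter.style.haveILetI false

universe u

namespace Groth.Agent.EGA43.FlatBC

open TensorProduct Function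

variable {A : Type u} [CommRing A] (M : Type u) [AddCommGroup M] [Module A M]

theorem eq_zero_of_forall_proj_rTensor {ι : Type*} [Finite ι] (V : ι → Type u) [∀ i, AddCommGroup (V i)]
    [∀ i, Module A (V i)] (x : (∀ i, V i) ⊗[A] M)
    (h : ∀ i, (LinearMap.proj (R := A) (φ := V) i).rTensor M x = 0) : x = 0 := by
  classical
  have := Fintype.ofFinite ι
  have hid : (LinearMap.id : (∀ i, V i) →ₗ[A] ∀ i, V i) = ∑ i, LinearMap.single A V i ∘ₗ LinearMap.proj i := by
    ext v i
    simp [LinearMap.coe_sum, Finset.sum_apply, Pi.single_apply]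
  have h1 : x = (LinearMap.rTensorHom M (LinearMap.id : (∀ i, V i) →ₗ[A] ∀ i, V i)) x :=
    (LinearMap.rTensor_id_apply M _ x).symm
  rw [h1, hid, map_sum, LinearMap.sum_apply]
  refine Finset.sum_eq_zero fun i _ => ?_
  show (LinearMap.single A V i ∘ₗ LinearMap.proj i).rTensor M x = 0
  rw [LinearMap.rTensor_comp_apply, h, map_zero]

theorem rTensor_inclusion_injective {R : Type u} [CommRing R] [Algebra A R] [Module.Flat R (R ⊗[A] M)]
    {I I' : Ideal R} (h : I ≤ I') : Injective (((Submodule.inclusion h).restrictScalars A).rTensor M) := by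
  let e : I ⊗[R] (R ⊗[A] M) ≃ₗ[R] I ⊗[A] M := AlgebraTensorModule.cancelBaseChange A R R I M
  let e' : I' ⊗[R] (R ⊗[A] M) ≃ₗ[R] I' ⊗[A] M := AlgebraTensorModule.cancelBaseChange A R R I' M
  have hinj := Module.Flat.rTensor_preserves_injective_linearMap (M := R ⊗[A] M) (Submodule.inclusion h)
    (Submodule.inclusion_injective h)
  have hcomm : ∀ z, ((Submodule.inclusion h).restrictScalars A).rTensor M (e z) =
      e' ((Submodule.inclusion h).rTensor (R ⊗[A] M) z) := fun z => by
    induction z using TensorProduct.induction_on with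
    | zero => simp
    | add a b ha hb => simp only [map_add, ha, hb]
    | tmul a y =>
      induction y using TensorProduct.induction_on with
      | zero => simp
      | add y y' hy hy' => simp only [TensorProduct.tmul_add, map_add, hy, hy']
      | tmul r m =>
        simp only [e, e', AlgebraTensorModule.cancelBaseChange_tmul, LinearMap.rTensor_tmul]
        rfl
  intro a b hab
  obtain ⟨a, rfl⟩ := e.surjective a
  obtain ⟨b, rfl⟩ := e.surjective b
  rw [hcomm, hcomm] at hab
  rw [hinj (e'.injective hab)]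

/-- EGA IV 11.4.9 in abstract form: a finite family of flat test algebras. -/
theorem flat_of_flat_mod_nilpotent_of_family (J : Ideal A) (hJ : IsNilpotent J)
    [Module.Flat (A ⧸ J) ((A ⧸ J) ⊗[A] M)] {ι : Type u} [Finite ι] (R : ι → Type u) [∀ i, CommRing (R i)]
    [∀ i, Algebra A (R i)] (hR : ∀ a : A, (∀ i, algebraMap A (R i) a = 0) → a = 0)
    [∀ i, Module.Flat (R i) (R i ⊗[A] M)] : Module.Flat A M := by
  classical
  let I : ∀ i, ℕ → Ideal (R i) := fun i k => J.map (algebraMap A (R i)) ^ k
  let L : ℕ → Ideal A := fun k => ⨅ i, (I i k).comap (algebraMap A (R i))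
  have hI : ∀ i k, I i (k + 1) ≤ I i k := fun i k => Ideal.pow_le_pow_right (Nat.le_succ k)
  have hL : ∀ k, L (k + 1) ≤ L k := fun k => iInf_mono fun i => Ideal.comap_mono (hI i k)
  have hmem : ∀ {k} {a : A}, a ∈ L k ↔ ∀ i, algebraMap A (R i) a ∈ I i k := fun {k a} => Submodule.mem_iInf _
  obtain ⟨n, hn⟩ := hJ
  have hIn : ∀ i m, n ≤ m → I i m = ⊥ := fun i m hm => by
    refine le_bot_iff.1 ((Ideal.pow_le_pow_right hm).trans ?_)
    rw [← Ideal.map_pow, hn, Ideal.zero_eq_bot, Ideal.map_bot]
  have hJL : J ≤ L 1 := fun a ha => hmem.2 fun i => by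
    show _ ∈ _ ^ 1
    rw [pow_one]
    exact Ideal.mem_map_of_mem _ ha
  have hLnil : IsNilpotent (L 1) := by
    refine ⟨n, le_bot_iff.1 fun a ha => (Submodule.mem_bot A).2 (hR a fun i => ?_)⟩
    have h1 : algebraMap A (R i) a ∈ (I i 1) ^ n := by
      refine Ideal.pow_right_mono (Ideal.map_le_iff_le_comap.2 fun b hb => hmem.1 hb i) n ?_
      rw [← Ideal.map_pow]
      exact Ideal.mem_map_of_mem _ ha
    have h2 : (I i 1) ^ n = ⊥ := by
      show (_ ^ 1) ^ n = ⊥
      rw [pow_one]
      exact hIn i n le_rfl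
    rw [h2] at h1
    exact h1
  haveI : Module.Flat (A ⧸ L 1) ((A ⧸ L 1) ⊗[A] M) := by
    letI := (Ideal.Quotient.factor hJL).toAlgebra
    haveI : IsScalarTower A (A ⧸ J) (A ⧸ L 1) := IsScalarTower.of_algebraMap_eq fun a => rfl
    exact Module.Flat.of_linearEquiv
      (AlgebraTensorModule.cancelBaseChange A (A ⧸ J) (A ⧸ L 1) (A ⧸ L 1) M).symm
  have hq : FlatCrit.QuotFlat A M (L 1) := FlatCrit.quotFlat_of_flat _ inferInstance
  -- the maps `L k → I i k`
  let φ : ∀ i k, ↥(L k) →ₗ[A] ↥(I i k) := fun i k =>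
    { toFun := fun a => ⟨algebraMap A (R i) a.1, hmem.1 a.2 i⟩
      map_add' := fun a b => Subtype.ext (map_add _ _ _)
      map_smul' := fun r a => Subtype.ext (by
        show algebraMap A (R i) (r * a.1) = r • algebraMap A (R i) a.1
        rw [map_mul, Algebra.smul_def]) }
  have key : ∀ m k, n ≤ k + m → 1 ≤ k → ∀ x : ↥(L k) ⊗[A] M, (∀ i, (φ i k).rTensor M x = 0) → x = 0 := by
    intro m
    induction m with
    | zero =>
      intro k hk _ x _
      have : Subsingleton ↥(L k) := ⟨fun a b => Subtype.ext (sub_eq_zero.1 (hR _ fun i => by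
        have := hmem.1 (sub_mem a.2 b.2) i
        rw [hIn i k hk] at this
        exact this))⟩
      exact Subsingleton.elim x 0
    | succ m ih =>
      intro k hk hk1 x hx
      let jL : ↥(L (k + 1)) →ₗ[A] ↥(L k) := Submodule.inclusion (hL k)
      let jI : ∀ i, ↥(I i (k + 1)) →ₗ[A] ↥(I i k) := fun i => (Submodule.inclusion (hI i k)).restrictScalars A
      let Q' : ι → Type u := fun i => ↥(I i k) ⧸ LinearMap.range (jI i)
      have hcomm : ∀ i, jI i ∘ₗ φ i (k + 1) = φ i k ∘ₗ jL := fun i => LinearMap.ext fun a => rfl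
      let Φ : (↥(L k) ⧸ LinearMap.range jL) →ₗ[A] ∀ i, Q' i :=
        LinearMap.pi fun i => (LinearMap.range jL).mapQ (LinearMap.range (jI i)) (φ i k) (by
          rintro _ ⟨a, rfl⟩
          exact ⟨φ i (k + 1) a, rfl⟩)
      have hΦ : Injective Φ := by
        rw [← LinearMap.ker_eq_bot, LinearMap.ker_eq_bot']
        intro q hq
        obtain ⟨a, rfl⟩ := Submodule.Quotient.mk_surjective _ q
        rw [Submodule.Quotient.mk_eq_zero]
        have : a.1 ∈ L (k + 1) := hmem.2 fun i => by
          have h1 : Submodule.Quotient.mk (p := LinearMap.range (jI i)) (φ i k a) = 0 := congrFun hq i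
          rw [Submodule.Quotient.mk_eq_zero] at h1
          obtain ⟨b, hb⟩ := h1
          have := congrArg Subtype.val hb
          rw [show algebraMap A (R i) a.1 = b.1 from this.symm]
          exact b.2
        exact ⟨⟨a.1, this⟩, rfl⟩
      have hkill : ∀ r ∈ L 1, ∀ v : ∀ i, Q' i, r • v = 0 := fun r hr v => funext fun i => by
        rw [Pi.smul_apply, Pi.zero_apply]
        obtain ⟨w, hw⟩ := Submodule.Quotient.mk_surjective _ (v i)
        rw [← hw, ← Submodule.Quotient.mk_smul, Submodule.Quotient.mk_eq_zero]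
        have h1 : (algebraMap A (R i) r) * w.1 ∈ I i (k + 1) := by
          have h2 := Ideal.mul_mem_mul (hmem.1 hr i) w.2
          change _ ∈ (_ : Ideal (R i)) ^ 1 * (_ ^ k) at h2
          rwa [← pow_add, add_comm] at h2
        refine ⟨⟨_, h1⟩, Subtype.ext ?_⟩
        show algebraMap A (R i) r * w.1 = r • w.1
        rw [Algebra.smul_def]
      have hx0 : (Submodule.mkQ (LinearMap.range jL)).rTensor M x = 0 := by
        refine hq Φ hkill hΦ ?_
        rw [map_zero, ← LinearMap.rTensor_comp_apply]
        refine eq_zero_of_forall_proj_rTensor M Q' _ fun i => ?_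
        rw [← LinearMap.rTensor_comp_apply]
        have : LinearMap.proj i ∘ₗ Φ ∘ₗ Submodule.mkQ (LinearMap.range jL) =
            Submodule.mkQ (LinearMap.range (jI i)) ∘ₗ φ i k := LinearMap.ext fun a => rfl
        rw [this, LinearMap.rTensor_comp_apply, hx i, map_zero]
      obtain ⟨y, rfl⟩ := ((rTensor_exact M (LinearMap.exact_map_mkQ_range jL) (Submodule.mkQ_surjective _)) x).1 hx0
      have hy : y = 0 := ih (k + 1) (by omega) (by omega) y fun i => by
        apply rTensor_inclusion_injective M (hI i k)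
        show (jI i).rTensor M _ = (jI i).rTensor M 0
        rw [map_zero, ← LinearMap.rTensor_comp_apply, hcomm, LinearMap.rTensor_comp_apply]
        exact hx i
      rw [hy, map_zero]
  refine FlatCrit.flat_of_isNilpotent (I := L 1) ?_ hq hLnil
  rw [← LinearMap.ker_eq_bot, LinearMap.ker_eq_bot']
  intro x hx
  refine key n 1 (by omega) le_rfl x fun i => ?_
  apply rTensor_inclusion_injective M (le_top (a := I i 1))
  rw [map_zero, ← LinearMap.rTensor_comp_apply]
  let ψ : A →ₗ[A] ↥(⊤ : Ideal (R i)) :=
    { toFun := fun a => ⟨algebraMap A (R i) a, trivial⟩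
      map_add' := fun a b => Subtype.ext (map_add _ _ _)
      map_smul' := fun r a => Subtype.ext (by
        show algebraMap A (R i) (r * a) = r • algebraMap A (R i) a
        rw [map_mul, Algebra.smul_def]) }
  have : (Submodule.inclusion (le_top (a := I i 1))).restrictScalars A ∘ₗ φ i 1 = ψ ∘ₗ (L 1).subtype :=
    LinearMap.ext fun a => rfl
  rw [this, LinearMap.rTensor_comp_apply, hx, map_zero]

/-- EGA IV 11.4.9. -/
theorem flat_iff_flat_mod_nilpotent_and_flat_at_ass [IsNoetherianRing A] (J : Ideal A) (hJ : IsNilpotent J) :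
    Module.Flat A M ↔ Module.Flat (A ⧸ J) ((A ⧸ J) ⊗[A] M) ∧
      ∀ p : associatedPrimes A A,
        haveI : p.1.IsPrime := IsAssociatedPrime.isPrime p.2
        Module.Flat (Localization.AtPrime p.1) (LocalizedModule p.1.primeCompl M) := by
  haveI : ∀ p : associatedPrimes A A, p.1.IsPrime := fun p => IsAssociatedPrime.isPrime p.2
  have he : ∀ p : associatedPrimes A A, Localization.AtPrime p.1 ⊗[A] M ≃ₗ[Localization.AtPrime p.1]
      LocalizedModule p.1.primeCompl M := fun p =>
    (IsLocalizedModule.isBaseChange p.1.primeCompl (Localization.AtPrime p.1)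
      (LocalizedModule.mkLinearMap p.1.primeCompl M)).equiv
  constructor
  · intro _
    exact ⟨inferInstance, fun p => Module.Flat.of_linearEquiv (he p).symm⟩
  · rintro ⟨h1, h2⟩
    haveI : ∀ p : associatedPrimes A A, Module.Flat (Localization.AtPrime p.1) (Localization.AtPrime p.1 ⊗[A] M) :=
      fun p => haveI := h2 p; Module.Flat.of_linearEquiv (he p)
    haveI : Finite (associatedPrimes A A) := (associatedPrimes.finite A A).to_subtype
    refine flat_of_flat_mod_nilpotent_of_family M J hJ (fun p : associatedPrimes A A => Localization.AtPrime p.1)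
      fun a ha => ?_
    by_contra hne
    obtain ⟨p, hp, hle⟩ := exists_le_isAssociatedPrime_of_isNoetherianRing A a hne
    haveI := hp.isPrime
    obtain ⟨s, hs⟩ := (IsLocalization.map_eq_zero_iff p.primeCompl (Localization.AtPrime p) a).1 (ha ⟨p, hp⟩)
    refine s.2 (hle ?_)
    rw [Submodule.mem_colon_singleton, Submodule.mem_bot]
    exact hs

end Groth.Agent.EGA43.FlatBC
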