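import Groth.Agent.EGA43.FlatBC.Main
import Mathlib.RingTheory.Artinian.Ring

/-!
# EGA IV 11.5.1 over a local Artinian base
-/

set_option autoImplicit false
set_option backward.isDefEq.respectTransparency false
set_option linter.style.haveILetI false

universe u

open CategoryTheory CategoryTheory.Limits AlgebraicGeometry IsLocalRing

namespace Groth.Agent.EGA43.FlatBC

theorem subsingleton_spec (A : Type u) [CommRing A] [IsArtinianRing A] [IsLocalRing A] :
    Subsingleton ↥(Spec (CommRingCat.of A)) :=
  ⟨fun p q => PrimeSpectrum.ext (by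
    haveI : (p : PrimeSpectrum A).asIdeal.IsPrime := (p : PrimeSpectrum A).isPrime
    haveI : (q : PrimeSpectrum A).asIdeal.IsPrime := (q : PrimeSpectrum A).isPrime
    exact (IsLocalRing.eq_maximalIdeal (IsArtinianRing.isMaximal_of_isPrime (p : PrimeSpectrum A).asIdeal)).trans
      (IsLocalRing.eq_maximalIdeal (IsArtinianRing.isMaximal_of_isPrime (q : PrimeSpectrum A).asIdeal)).symm)⟩

theorem toStalk_bijective (A : Type u) [CommRing A] [IsLocalRing A] (p : PrimeSpectrum A)
    (hp : p.asIdeal = maximalIdeal A) :
    Function.Bijective (StructureSheaf.toStalk (CommRingCat.of A) p).hom := by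
  letI : Algebra A ((Spec (CommRingCat.of A)).presheaf.stalk p) :=
    (StructureSheaf.toStalk (CommRingCat.of A) p).hom.toAlgebra
  haveI : IsLocalization.AtPrime ((Spec (CommRingCat.of A)).presheaf.stalk p) p.asIdeal :=
    StructureSheaf.IsLocalization.to_stalk (CommRingCat.of A) p
  exact (IsLocalization.atUnits A p.asIdeal.primeCompl
    (S := (Spec (CommRingCat.of A)).presheaf.stalk p) (fun a ha => by
      have : a ∉ maximalIdeal A := hp ▸ ha
      exact (IsLocalRing.notMem_maximalIdeal).1 this)).bijective

theorem toStalk_baseMap {X : Scheme.{u}} {A : Type u} [CommRing A] (f : X ⟶ Spec (CommRingCat.of A))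
    {A' : Type u} [CommRing A'] (u : A →+* A') (x : X) (p : ↥(Spec (CommRingCat.of A')))
    (h : f x = Spec.map (CommRingCat.ofHom u) p) :
    StructureSheaf.toStalk (CommRingCat.of A) (f x) ≫ baseMap f (Spec.map (CommRingCat.ofHom u)) h =
      CommRingCat.ofHom u ≫ StructureSheaf.toStalk (CommRingCat.of A') p := by
  apply Spec.map_injective
  rw [Spec.map_comp, Spec.map_comp]
  rw [← Spec.fromSpecStalk_eq' (CommRingCat.of A) (f x), ← Spec.fromSpecStalk_eq' (CommRingCat.of A') p]
  exact specMap_baseMap f _ h

end Groth.Agent.EGA43.FlatBC
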