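import Groth.Agent.EGA43.FlatBC.Adic
import Groth.Agent.EGA43.FlatBC.SpecBase

/-!
# Families of spectra over the local scheme
-/

set_option autoImplicit false
set_option backward.isDefEq.respectTransparency false
set_option linter.style.haveILetI false

universe u

open CategoryTheory CategoryTheory.Limits AlgebraicGeometry IsLocalRing

namespace Groth.Agent.EGA43.FlatBC

variable {X Y : Scheme.{u}} (f : X ⟶ Y) (x : X) {A : Type u} [CommRing A]
  (φ : (Y.presheaf.stalk (f x) : Type u) →+* A)

/-- The morphism `Spec A → Y`. -/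
noncomputable abbrev specTo : Spec (CommRingCat.of A) ⟶ Y :=
  Spec.map (CommRingCat.ofHom φ) ≫ Y.fromSpecStalk (f x)

theorem specTo_apply (p : ↥(Spec (CommRingCat.of A)))
    (hp : Ideal.comap φ (p : PrimeSpectrum A).asIdeal = maximalIdeal _) : f x = specTo f x φ p := by
  rw [Scheme.Hom.comp_apply]
  have : Spec.map (CommRingCat.ofHom φ) p = closedPoint _ := PrimeSpectrum.ext hp
  rw [this]
  exact (Scheme.fromSpecStalk_closedPoint (X := Y) (x := f x)).symm

theorem baseMap_specTo (p : ↥(Spec (CommRingCat.of A))) (h : f x = specTo f x φ p) :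
    baseMap f (specTo f x φ) h = CommRingCat.ofHom φ ≫ StructureSheaf.toStalk (CommRingCat.of A) p := by
  apply Spec.map_injective
  rw [← cancel_mono (Y.fromSpecStalk (f x)), specMap_baseMap, Spec.map_comp, Category.assoc,
    ← Spec.fromSpecStalk_eq' (CommRingCat.of A) p]

theorem comap_pow_eq [IsLocalRing A] (h : f x = specTo f x φ (closedPoint A)) (n : ℕ) :
    Ideal.comap (baseMap f (specTo f x φ) h).hom
        (maximalIdeal ((Spec (CommRingCat.of A)).presheaf.stalk (closedPoint A)) ^ n) =
      Ideal.comap φ (maximalIdeal A ^ n) := by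
  have hb := toStalk_bijective A (closedPoint A) rfl
  let e : A ≃+* ((Spec (CommRingCat.of A)).presheaf.stalk (closedPoint A)) := RingEquiv.ofBijective _ hb
  rw [baseMap_specTo, CommRingCat.hom_comp, ← Ideal.comap_comap]
  congr 1
  have hm : maximalIdeal ((Spec (CommRingCat.of A)).presheaf.stalk (closedPoint A)) =
      (maximalIdeal A).map e.toRingHom :=
    (IsLocalRing.map_maximalIdeal_of_surjective e.toRingHom e.surjective).symm
  rw [hm, ← Ideal.map_pow]
  exact Ideal.comap_map_of_bijective e.toRingHom e.bijective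

end Groth.Agent.EGA43.FlatBC
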