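import Groth.Agent.EGA43.FlatBC.Main
import Mathlib.RingTheory.TensorProduct.Quotient

/-!
# EGA IV 11.5.5: flatness tested on a family of base changes, adic form
-/

set_option autoImplicit false
set_option backward.isDefEq.respectTransparency false
set_option linter.style.haveILetI false

universe u

open CategoryTheory CategoryTheory.Limits AlgebraicGeometry IsLocalRing
open scoped TensorProduct

namespace Groth.Agent.EGA43.FlatBC

/-- Flatness modulo an ideal cut out by the family. -/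
theorem quotFlat_of_family {A : Type u} [CommRing A] [IsLocalRing A] (J : Ideal A) (hJ : J ≤ maximalIdeal A)
    (K : ℕ) (hK : maximalIdeal A ^ K ≤ J) (M : Type u) [AddCommGroup M] [Module A M]
    {ι : Type*} (C : ι → Type u) [∀ i, CommRing (C i)] [∀ i, IsLocalRing (C i)] [∀ i, Algebra A (C i)]
    (L : ∀ i, Ideal (C i)) (hL : ∀ i, L i ≤ maximalIdeal (C i))
    (hJL : ∀ a, a ∈ J ↔ ∀ i, algebraMap A (C i) a ∈ L i)
    {Z : ι → Type*} (N : ∀ i, Z i → Type u) [∀ i z, AddCommGroup (N i z)] [∀ i z, Module (C i) (N i z)]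
    [∀ i z, Module A (N i z)] [∀ i z, IsScalarTower A (C i) (N i z)] [∀ i z, Module.Flat (C i) (N i z)]
    (ψ : ∀ i z, M →ₗ[A] N i z)
    (hsep : ∀ i (T : Type u) [Fintype T] (a : T → C i) (e : T → M),
      (∀ z, ∑ j, a j • ψ i z (e j) ∈ (maximalIdeal (C i) • ⊤ : Submodule (C i) (N i z))) →
        ∑ j, residue (C i) (a j) ⊗ₜ[A] e j = 0) :
    FlatCrit.QuotFlat A M J := by
  haveI : Nontrivial (A ⧸ J) := Ideal.Quotient.nontrivial_iff.2 fun h =>
    (maximalIdeal.isMaximal A).ne_top (top_le_iff.1 (h ▸ hJ))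
  haveI : IsLocalRing (A ⧸ J) := .of_surjective' (Ideal.Quotient.mk J) Ideal.Quotient.mk_surjective
  have hnil : IsNilpotent (maximalIdeal (A ⧸ J)) := by
    refine ⟨K, ?_⟩
    rw [← IsLocalRing.map_maximalIdeal_of_surjective (Ideal.Quotient.mk J) Ideal.Quotient.mk_surjective,
      ← Ideal.map_pow, Ideal.zero_eq_bot, Ideal.map_eq_bot_iff_le_ker, Ideal.mk_ker]
    exact hK
  haveI : ∀ i, Nontrivial (C i ⧸ L i) := fun i => Ideal.Quotient.nontrivial_iff.2 fun h =>
    (maximalIdeal.isMaximal (C i)).ne_top (top_le_iff.1 (h ▸ hL i))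
  haveI : ∀ i, IsLocalRing (C i ⧸ L i) := fun i => .of_surjective' (Ideal.Quotient.mk (L i)) Ideal.Quotient.mk_surjective
  haveI : ∀ i, IsLocalHom (Ideal.Quotient.mk (L i)) := fun i =>
    IsLocalHom.of_surjective _ Ideal.Quotient.mk_surjective
  letI : ∀ i, Algebra (A ⧸ J) (C i ⧸ L i) := fun i =>
    (Ideal.Quotient.lift J (algebraMap A (C i ⧸ L i)) fun a ha =>
      Ideal.Quotient.eq_zero_iff_mem.2 ((hJL a).1 ha i)).toAlgebra
  haveI : ∀ i, IsScalarTower A (A ⧸ J) (C i ⧸ L i) := fun i => IsScalarTower.of_algebraMap_eq fun a => rfl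
  refine FlatCrit.quotFlat_of_flat J ?_
  refine flat_of_family hnil ((A ⧸ J) ⊗[A] M) (fun i => C i ⧸ L i) (fun a ha => ?_)
    (fun i z => (C i ⧸ L i) ⊗[C i] N i z)
    (fun i z => LinearMap.liftBaseChange (A ⧸ J)
      (((TensorProduct.mk (C i) (C i ⧸ L i) (N i z) 1).restrictScalars A) ∘ₗ ψ i z)) ?_
  · obtain ⟨a, rfl⟩ := Ideal.Quotient.mk_surjective a
    exact Ideal.Quotient.eq_zero_iff_mem.2 ((hJL a).2 fun i => Ideal.Quotient.eq_zero_iff_mem.1 (ha i))
  · intro i T _ a e hv
    choose a' ha' using fun j => Ideal.Quotient.mk_surjective (a j)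
    choose e' he' using fun j => TensorProduct.mk_surjective A M (A ⧸ J) Ideal.Quotient.mk_surjective (e j)
    have h0 := hsep i T a' e' fun z => by
      rw [← LinearMap.ker_tensorProductMk, LinearMap.mem_ker]
      let π : C i ⧸ L i →ₗ[C i] ResidueField (C i) := Submodule.factor (hL i)
      have hkill : ∀ x ∈ (maximalIdeal (C i ⧸ L i) • ⊤ : Submodule (C i ⧸ L i) ((C i ⧸ L i) ⊗[C i] N i z)),
          π.rTensor (N i z) x = 0 := fun x hx => by
        refine Submodule.smul_induction_on hx (fun r hr y _ => ?_) fun a b ha hb => by rw [map_add, ha, hb, add_zero]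
        obtain ⟨r, rfl⟩ := Ideal.Quotient.mk_surjective r
        have hr' : r ∈ maximalIdeal (C i) := fun hu => hr (hu.map _)
        change π.rTensor (N i z) (algebraMap (C i) (C i ⧸ L i) r • y) = 0
        rw [algebraMap_smul, map_smul, ← algebraMap_smul (ResidueField (C i)) r (π.rTensor (N i z) y),
          IsLocalRing.ResidueField.algebraMap_eq, (residue_eq_zero_iff r).2 hr', zero_smul]
      refine Eq.trans ?_ (hkill _ (hv z))
      rw [map_sum, map_sum]
      refine Finset.sum_congr rfl fun j _ => ?_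
      rw [← he' j, ← ha' j, TensorProduct.mk_apply, TensorProduct.mk_apply, LinearMap.liftBaseChange_tmul, one_smul,
        TensorProduct.tmul_smul]
      change _ = π.rTensor (N i z) (algebraMap (C i) (C i ⧸ L i) (a' j) • _)
      rw [algebraMap_smul, map_smul]
      rfl
    let ρ : ResidueField (C i) →ₗ[A] ResidueField (C i ⧸ L i) :=
      { toFun := IsLocalRing.ResidueField.map (Ideal.Quotient.mk (L i))
        map_add' := map_add _
        map_smul' := fun r x => by
          rw [Algebra.smul_def, map_mul, RingHom.id_apply, Algebra.smul_def]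
          rfl }
    let Θ := TensorProduct.mapOfCompatibleSMul (A ⧸ J) A A (ResidueField (C i ⧸ L i)) ((A ⧸ J) ⊗[A] M) ∘ₗ
      TensorProduct.map ρ (TensorProduct.mk A (A ⧸ J) M 1)
    have h1 := congrArg Θ h0
    rw [map_sum, map_zero] at h1
    refine Eq.trans (Finset.sum_congr rfl fun j _ => ?_) h1
    rw [← he' j, ← ha' j]
    rfl

variable {X Y : Scheme.{u}} (f : X ⟶ Y) (F : X.Modules)
variable {ι : Type*} {Z : ι → Scheme.{u}} (g : ∀ i, Z i ⟶ Y) (y : ∀ i, Z i) (x : X)
  [IsNoetherianRing (Y.presheaf.stalk (f x))]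
  [IsNoetherianRing (X.presheaf.stalk x)] [Module.Finite (X.presheaf.stalk x) (F.presheaf.stalk x)]

/-- EGA IV 11.5.5: the family induces the adic topology. -/
theorem isFlatOverAt_of_adic_family (h : ∀ i, f x = g i (y i))
    (htop : ∀ N : ℕ, ∃ s : Finset (ι × ℕ), ⨅ p ∈ s,
      Ideal.comap (baseMap f (g p.1) (h p.1)).hom (maximalIdeal ((Z p.1).presheaf.stalk (y p.1)) ^ p.2) ≤
        maximalIdeal (Y.presheaf.stalk (f x)) ^ N)
    (hflat : ∀ (i : ι) (z : ↑(pullback f (g i))), pullback.fst f (g i) z = x → pullback.snd f (g i) z = y i →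
      FlatMod.IsFlatOverAt (pullback.snd f (g i)) ((Scheme.Modules.pullback (pullback.fst f (g i))).obj F) z) :
    FlatMod.IsFlatOverAt f F x := by
  letI := FlatMod.moduleStalkOver f F x
  letI := (f.stalkMap x).hom.toAlgebra
  haveI : IsScalarTower (Y.presheaf.stalk (f x)) (X.presheaf.stalk x) (F.presheaf.stalk x) :=
    IsScalarTower.of_compHom _ _ _
  letI : ∀ i, Algebra (Y.presheaf.stalk (f x)) ((Z i).presheaf.stalk (y i)) := fun i =>
    (baseMap f (g i) (h i)).hom.toAlgebra
  let W : ι → Type u := fun i =>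
    {z : ↑(pullback f (g i)) // pullback.fst f (g i) z = x ∧ pullback.snd f (g i) z = y i}
  letI : ∀ i (z : W i), Algebra (X.presheaf.stalk x) ((pullback f (g i)).presheaf.stalk z.1) := fun i z =>
    (ptX f (g i) z.1 z.2.1).hom.toAlgebra
  letI iC : ∀ i (z : W i), Module ((Z i).presheaf.stalk (y i))
      ((pullback f (g i)).presheaf.stalk z.1 ⊗[X.presheaf.stalk x] F.presheaf.stalk x) := fun i z =>
    Module.compHom _ (ptY f (g i) z.1 z.2.2).hom
  letI iA : ∀ i (z : W i), Module (Y.presheaf.stalk (f x))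
      ((pullback f (g i)).presheaf.stalk z.1 ⊗[X.presheaf.stalk x] F.presheaf.stalk x) := fun i z =>
    Module.compHom _ (algebraMap (Y.presheaf.stalk (f x)) ((Z i).presheaf.stalk (y i)))
  haveI : ∀ i (z : W i), IsScalarTower (Y.presheaf.stalk (f x)) ((Z i).presheaf.stalk (y i))
      ((pullback f (g i)).presheaf.stalk z.1 ⊗[X.presheaf.stalk x] F.presheaf.stalk x) := fun i z =>
    IsScalarTower.of_compHom _ _ _
  haveI : ∀ i (z : W i), Module.Flat ((Z i).presheaf.stalk (y i))
      ((pullback f (g i)).presheaf.stalk z.1 ⊗[X.presheaf.stalk x] F.presheaf.stalk x) := fun i z =>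
    flat_pt f (g i) F z.1 z.2.1 z.2.2 (hflat i z.1 z.2.1 z.2.2)
  haveI : IsLocalHom (algebraMap (Y.presheaf.stalk (f x)) (X.presheaf.stalk x)) :=
    inferInstanceAs (IsLocalHom (f.stalkMap x).hom)
  refine FlatCrit.flat_of_quotFlat_pow (S := X.presheaf.stalk x) (maximalIdeal _) ?_ fun n => ?_
  · rw [IsLocalRing.jacobson_eq_maximalIdeal ⊥ bot_ne_top, Ideal.map_le_iff_le_comap]
    intro r hr
    exact map_nonunit _ r hr
  obtain ⟨s, hs⟩ := htop (n + 1)
  let L : ∀ p : ↥s, Ideal ((Z p.1.1).presheaf.stalk (y p.1.1)) := fun p => maximalIdeal _ ^ (p.1.2 + 1)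
  let J : Ideal (Y.presheaf.stalk (f x)) :=
    ⨅ p : ↥s, (L p).comap (baseMap f (g p.1.1) (h p.1.1)).hom
  have hJ : J ≤ maximalIdeal (Y.presheaf.stalk (f x)) ^ (n + 1) := by
    refine le_trans (le_iInf₂ fun p hp => ?_) hs
    exact (iInf_le _ (⟨p, hp⟩ : ↥s)).trans (Ideal.comap_mono (Ideal.pow_le_pow_right (Nat.le_succ _)))
  have hK : maximalIdeal (Y.presheaf.stalk (f x)) ^ (s.sup (fun p => p.2) + 1) ≤ J := le_iInf fun p => by
    rw [← Ideal.map_le_iff_le_comap, Ideal.map_pow]
    refine le_trans (Ideal.pow_le_pow_right (Nat.add_le_add_right (Finset.le_sup (f := fun p => p.2) p.2) 1))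
      (Ideal.pow_right_mono ?_ _)
    haveI := isLocalHom_baseMap f (g p.1.1) (h p.1.1)
    rw [Ideal.map_le_iff_le_comap]
    intro r hr
    exact map_nonunit _ r hr
  suffices hq : FlatCrit.QuotFlat (Y.presheaf.stalk (f x)) (F.presheaf.stalk x) J from
    fun P Q _ _ _ _ i hQ hi => hq i (fun r hr b => hQ r (Ideal.pow_le_pow_right (Nat.le_succ n) (hJ hr)) b) hi
  refine quotFlat_of_family J (hJ.trans (Ideal.pow_le_self (Nat.succ_ne_zero n))) _ hK (F.presheaf.stalk x)
    (fun p : ↥s => (Z p.1.1).presheaf.stalk (y p.1.1)) L (fun p => Ideal.pow_le_self (Nat.succ_ne_zero _))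
    (fun a => Submodule.mem_iInf _)
    (fun p (z : W p.1.1) => (pullback f (g p.1.1)).presheaf.stalk z.1 ⊗[X.presheaf.stalk x] F.presheaf.stalk x)
    (fun p z => { toFun := fun m => (1 : (pullback f (g p.1.1)).presheaf.stalk z.1) ⊗ₜ[X.presheaf.stalk x] m
                  map_add' := fun a b => TensorProduct.tmul_add _ a b
                  map_smul' := fun r m => ?_ }) ?_
  · show (1 : (pullback f (g p.1.1)).presheaf.stalk z.1) ⊗ₜ[X.presheaf.stalk x] ((f.stalkMap x).hom r • m) =
      (ptY f (g p.1.1) z.1 z.2.2).hom ((baseMap f (g p.1.1) (h p.1.1)).hom r) •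
        ((1 : (pullback f (g p.1.1)).presheaf.stalk z.1) ⊗ₜ[X.presheaf.stalk x] m)
    rw [← TensorProduct.smul_tmul, TensorProduct.smul_tmul', smul_eq_mul, mul_one,
      Algebra.smul_def, mul_one]
    exact congrArg (· ⊗ₜ[X.presheaf.stalk x] m)
      (ConcreteCategory.congr_hom (baseMap_ptY f (g p.1.1) (h p.1.1) z.1 z.2.1 z.2.2) r).symm
  · intro p T _ a e hz
    let i := p.1.1
    refine sum_residue_eq_zero f (g i) F x (y i) (h i) a e fun z h1 h2 => ?_
    letI := (ptX f (g i) z h1).hom.toAlgebra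
    letI := iC i ⟨z, h1, h2⟩
    have hmem := hz ⟨z, h1, h2⟩
    have h3 := mem_map_smul_top (ptY f (g i) z h2).hom _ _ hmem
    convert h3 using 1
    refine Finset.sum_congr rfl fun j _ => ?_
    show _ = (ptY f (g i) z h2).hom (a j) • ((1 : (pullback f (g i)).presheaf.stalk z) ⊗ₜ[X.presheaf.stalk x] e j)
    rw [TensorProduct.smul_tmul', smul_eq_mul, mul_one]

end Groth.Agent.EGA43.FlatBC
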