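import Groth.Agent.FlatCrit.Inj
import Mathlib.RingTheory.LocalRing.Module
import Mathlib.RingTheory.Artinian.Module
import Mathlib.LinearAlgebra.TensorProduct.Quotient

/-!
# EGA IV 11.5: descent of flatness along a jointly injective family, nilpotent maximal ideal
-/

set_option autoImplicit false
set_option backward.isDefEq.respectTransparency false
set_option linter.style.haveILetI false

universe u

namespace Groth.Agent.EGA43.FlatBC

open TensorProduct IsLocalRing Function

theorem flat_pi_of_finite {R : Type u} [CommRing R] {ι : Type*} [Finite ι] (N : ι → Type*)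
    [∀ i, AddCommGroup (N i)] [∀ i, Module R (N i)] [∀ i, Module.Flat R (N i)] : Module.Flat R (∀ i, N i) := by
  classical
  have := Fintype.ofFinite ι
  exact Module.Flat.of_linearEquiv (DFinsupp.linearEquivFunOnFintype (R := R) (M := N)).symm

section Separated

variable {C : Type u} [CommRing C] [IsLocalRing C]

/-- Finitely many of the test modules already separate a finite-dimensional space. -/
theorem exists_finset_separating {J Z : Type*} [Finite J] {V : Z → Type*} [∀ z, AddCommGroup (V z)]
    [∀ z, Module (ResidueField C) (V z)] (L : ∀ z, (J → ResidueField C) →ₗ[ResidueField C] V z)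
    (h : ∀ β, (∀ z, L z β = 0) → β = 0) :
    ∃ s : Finset Z, ∀ β, (∀ z ∈ s, L z β = 0) → β = 0 := by
  classical
  let S : Set (Submodule (ResidueField C) (J → ResidueField C)) :=
    Set.range fun s : Finset Z => s.inf fun z => LinearMap.ker (L z)
  obtain ⟨K, ⟨s, rfl⟩, hK⟩ := IsArtinian.set_has_minimal S ⟨_, ∅, rfl⟩
  refine ⟨s, fun β hβ => h β fun z => ?_⟩
  have hle : (insert z s).inf (fun z => LinearMap.ker (L z)) ≤ s.inf fun z => LinearMap.ker (L z) :=
    Finset.inf_mono (Finset.subset_insert z s)
  have heq := hle.eq_of_not_lt (hK _ ⟨_, rfl⟩)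
  have hmem : β ∈ s.inf fun z => LinearMap.ker (L z) := by
    rw [Submodule.mem_finsetInf]
    exact fun w hw => LinearMap.mem_ker.2 (hβ w hw)
  rw [← heq, Submodule.mem_finsetInf] at hmem
  exact hmem z (Finset.mem_insert_self _ _)

/-- A family of flat test modules detects linear relations. -/
theorem eq_zero_of_flat_family {J : Type u} [Fintype J] {Z : Type*} (N : Z → Type u)
    [∀ z, AddCommGroup (N z)] [∀ z, Module C (N z)] [∀ z, Module.Flat C (N z)] (v : ∀ z, J → N z)
    (hsep : ∀ a : J → C, (∀ z, ∑ j, a j • v z j ∈ (maximalIdeal C • ⊤ : Submodule C (N z))) →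
      ∀ j, a j ∈ maximalIdeal C)
    (a : J → C) (ha : ∀ z, ∑ j, a j • v z j = 0) : a = 0 := by
  classical
  let L : ∀ z, (J → ResidueField C) →ₗ[ResidueField C] (ResidueField C ⊗[C] N z) := fun z =>
    Fintype.linearCombination (ResidueField C) (fun j => (1 : ResidueField C) ⊗ₜ[C] v z j)
  have hL : ∀ z (b : J → C), L z (fun j => residue C (b j)) = (1 : ResidueField C) ⊗ₜ[C] ∑ j, b j • v z j := by
    intro z b
    simp only [L, Fintype.linearCombination_apply, TensorProduct.tmul_sum]
    refine Finset.sum_congr rfl fun j _ => ?_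
    rw [← IsLocalRing.ResidueField.algebraMap_eq, algebraMap_smul, TensorProduct.tmul_smul]
  obtain ⟨s, hs⟩ := exists_finset_separating L fun β hβ => by
    choose b hb using fun j => residue_surjective (β j)
    obtain rfl : (fun j => residue C (b j)) = β := funext hb
    funext j
    refine (residue_eq_zero_iff _).2 (hsep b (fun z => ?_) j)
    have h1 := hβ z
    rw [hL] at h1
    rw [← LinearMap.ker_tensorProductMk, LinearMap.mem_ker]
    exact h1
  haveI := flat_pi_of_finite (R := C) (fun z : ↥s => N z.1)
  let v' : J → ∀ z : ↥s, N z.1 := fun j z => v z.1 j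
  have hind : LinearIndependent (ResidueField C)
      (TensorProduct.mk C (ResidueField C) (∀ z : ↥s, N z.1) 1 ∘ v') := by
    rw [Fintype.linearIndependent_iff]
    intro β hβ j
    refine congrFun (hs β fun z hz => ?_) j
    let ev := (LinearMap.proj (R := C) (φ := fun z : ↥s => N z.1) ⟨z, hz⟩).baseChange (ResidueField C)
    have h2 := congrArg ev hβ
    rw [map_sum, map_zero] at h2
    simp only [L, Fintype.linearCombination_apply]
    refine Eq.trans (Finset.sum_congr rfl fun j _ => ?_) h2
    rw [map_smul]
    rfl
  have hlin := Module.IsLocalRing.linearIndependent_of_flat v' hind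
  funext j
  refine Fintype.linearIndependent_iff.1 hlin a ?_ j
  funext z
  rw [Finset.sum_apply]
  exact ha z.1

end Separated

variable {A : Type u} [CommRing A] [IsLocalRing A]

/-- EGA IV 11.5.1 abstractly: flatness over a local ring with nilpotent maximal ideal. -/
theorem flat_of_family (hnil : IsNilpotent (maximalIdeal A)) (M : Type u) [AddCommGroup M] [Module A M]
    {ι : Type*} (C : ι → Type u) [∀ i, CommRing (C i)] [∀ i, IsLocalRing (C i)] [∀ i, Algebra A (C i)]
    (hinj : ∀ a : A, (∀ i, algebraMap A (C i) a = 0) → a = 0)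
    {Z : ι → Type*} (N : ∀ i, Z i → Type u) [∀ i z, AddCommGroup (N i z)] [∀ i z, Module (C i) (N i z)]
    [∀ i z, Module A (N i z)] [∀ i z, IsScalarTower A (C i) (N i z)] [∀ i z, Module.Flat (C i) (N i z)]
    (ψ : ∀ i z, M →ₗ[A] N i z)
    (hsep : ∀ i (J : Type u) [Fintype J] (a : J → C i) (e : J → M),
      (∀ z, ∑ j, a j • ψ i z (e j) ∈ (maximalIdeal (C i) • ⊤ : Submodule (C i) (N i z))) →
        ∑ j, residue (C i) (a j) ⊗ₜ[A] e j = 0) :
    Module.Flat A M := by
  classical
  let k := ResidueField A
  let w := Module.Free.chooseBasis k (k ⊗[A] M)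
  obtain ⟨v, eq⟩ := (TensorProduct.mk_surjective A M k Ideal.Quotient.mk_surjective).comp_left w
  let p := Finsupp.linearCombination A v
  have hp : Surjective p := by
    rw [← LinearMap.range_eq_top, Finsupp.range_linearCombination]
    refine FlatCrit.submodule_eq_top_of_nilpotent hnil _ ?_
    rw [eq_top_iff]
    intro m _
    have hm : TensorProduct.mk A k M 1 m ∈ Submodule.span A (Set.range w) := by
      have := w.mem_span (TensorProduct.mk A k M 1 m)
      rwa [← Submodule.restrictScalars_mem A,
        Submodule.restrictScalars_span A k (Ideal.Quotient.mk_surjective (I := maximalIdeal A))] at this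
    rw [← eq, Set.range_comp, ← Submodule.map_span] at hm
    obtain ⟨n, hn, hn'⟩ := hm
    have : m - n ∈ (maximalIdeal A • ⊤ : Submodule A M) := by
      rw [← LinearMap.ker_tensorProductMk, LinearMap.mem_ker, map_sub]
      exact sub_eq_zero.mpr hn'.symm
    rw [← add_sub_cancel n m]
    exact Submodule.add_mem_sup hn this
  have hnilpotent : ∀ i, ∀ r ∈ maximalIdeal A, residue (C i) (algebraMap A (C i) r) = 0 := by
    intro i r hr
    obtain ⟨n, hn⟩ := hnil
    have h1 : (algebraMap A (C i) r) ^ n = 0 := by
      rw [← map_pow, show r ^ n = 0 from by simpa [hn] using Ideal.pow_mem_pow hr n, map_zero]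
    exact IsNilpotent.eq_zero ((IsNilpotent.mk _ n h1).map (residue (C i)))
  have hpi : Injective p := by
    rw [← LinearMap.ker_eq_bot, LinearMap.ker_eq_bot']
    intro c hc
    have hsum : ∑ l : ↥c.support, c l.1 • v l.1 = 0 := by
      rw [Finset.sum_coe_sort c.support (fun l => c l • v l)]
      exact hc
    ext j
    by_cases hj : j ∈ c.support
    · refine hinj _ fun i => ?_
      refine congrFun (eq_zero_of_flat_family (C := C i) (N i) (fun z l => ψ i z (v l.1)) ?_
        (fun l : ↥c.support => algebraMap A (C i) (c l.1)) fun z => ?_) ⟨j, hj⟩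
      · intro a ha l₀
        have h0 := hsep i ↥c.support a (fun l => v l.1) ha
        -- the coordinate functional
        let φ : k →ₗ[A] ResidueField (C i) := Submodule.liftQ (maximalIdeal A)
          (Algebra.linearMap A (ResidueField (C i))) fun r hr => LinearMap.mem_ker.2 (hnilpotent i r hr)
        let μ : M →ₗ[A] ResidueField (C i) :=
          φ ∘ₗ ((w.coord l₀.1).restrictScalars A) ∘ₗ TensorProduct.mk A k M 1
        let β : ResidueField (C i) ⊗[A] M →ₗ[A] ResidueField (C i) :=
          TensorProduct.lift ((LinearMap.mul A (ResidueField (C i))).compl₂ μ)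
        have h1 := congrArg β h0
        rw [map_sum, map_zero] at h1
        have hμ : ∀ l : ↥c.support, μ (v l.1) = if l = l₀ then 1 else 0 := by
          intro l
          show φ (w.coord l₀.1 ((TensorProduct.mk A k M 1 ∘ v) l.1)) = _
          rw [show (TensorProduct.mk A k M 1 ∘ v) l.1 = w l.1 from congrFun eq l.1, Module.Basis.coord_apply, w.repr_self,
            Finsupp.single_apply]
          by_cases hl : l = l₀
          · rw [if_pos hl, if_pos (congrArg Subtype.val hl)]
            show Algebra.linearMap A (ResidueField (C i)) 1 = 1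
            simp
          · rw [if_neg hl, if_neg fun hl' => hl (Subtype.ext hl'), map_zero]
        simp only [β, TensorProduct.lift.tmul, LinearMap.compl₂_apply, LinearMap.mul_apply', hμ,
          mul_ite, mul_one, mul_zero, Finset.sum_ite_eq', Finset.mem_univ, if_true] at h1
        exact (residue_eq_zero_iff _).1 h1
      · simp only [algebraMap_smul, ← map_smul, ← map_sum, hsum, map_zero]
    · exact Finsupp.notMem_support_iff.1 hj
  exact Module.Flat.of_linearEquiv (LinearEquiv.ofBijective p ⟨hpi, hp⟩).symm

end Groth.Agent.EGA43.FlatBC
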