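import Groth.Agent.EGA43.FlatBC.Algebra
import Mathlib.RingTheory.TensorProduct.Quotient
import Mathlib.RingTheory.Filtration
import Mathlib.RingTheory.Flat.Basic
import Mathlib.LinearAlgebra.DirectSum.Finsupp

/-!
# EGA IV 11.5: detecting elements of a base change at points over the closed points
-/

set_option autoImplicit false
set_option backward.isDefEq.respectTransparency false
set_option linter.style.haveILetI false

universe u

namespace Groth.Agent.EGA43.FlatBC

open TensorProduct IsLocalRing Function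

section Krull

variable (A B : Type u) [CommRing A] [IsLocalRing A] [CommRing B] [IsLocalRing B] [IsNoetherianRing B]
  [Algebra A B] (M : Type u) [AddCommGroup M] [Module B M] [Module A M] [IsScalarTower A B M] [Module.Finite B M]

theorem finite_tensor_residue : Module.Finite B (M ⊗[A] ResidueField A) := by
  refine Module.Finite.of_surjective
    ({ toFun := fun m => m ⊗ₜ[A] (1 : ResidueField A)
       map_add' := fun a b => TensorProduct.add_tmul a b _
       map_smul' := fun b m => (TensorProduct.smul_tmul' b m _).symm } : M →ₗ[B] M ⊗[A] ResidueField A) fun x => ?_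
  induction x with
  | zero => exact ⟨0, TensorProduct.zero_tmul M _⟩
  | add a b ha hb =>
    obtain ⟨a, rfl⟩ := ha
    obtain ⟨b, rfl⟩ := hb
    exact ⟨a + b, TensorProduct.add_tmul a b _⟩
  | tmul m r =>
    obtain ⟨r, rfl⟩ := residue_surjective r
    refine ⟨r • m, ?_⟩
    show (r • m) ⊗ₜ[A] (1 : ResidueField A) = _
    rw [TensorProduct.smul_tmul, ← algebraMap_smul (ResidueField A) r (1 : ResidueField A), smul_eq_mul, mul_one,
      IsLocalRing.ResidueField.algebraMap_eq]

/-- Krull separatedness survives a base change to a field over the residue field. -/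
theorem iInf_pow_smul_tensor_field (C : Type u) [CommRing C] [IsLocalRing C] [Algebra A C]
    [IsLocalHom (algebraMap A C)] :
    (⨅ n : ℕ, maximalIdeal B ^ n • ⊤ : Submodule B (M ⊗[A] ResidueField C)) = ⊥ := by
  let k := ResidueField A
  haveI : IsScalarTower A k (ResidueField C) := IsScalarTower.of_algebraMap_eq fun r => rfl
  classical
  obtain ⟨Θ, θ⟩ := Module.Free.exists_basis (R := k) (M := ResidueField C)
  let e : M ⊗[A] ResidueField C ≃ₗ[B] (Θ →₀ M ⊗[A] k) :=
    AlgebraTensorModule.congr (LinearEquiv.refl B M) (θ.repr.restrictScalars A) ≪≫ₗ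
      TensorProduct.finsuppRight A B (M := M) (N := k) (ι := Θ)
  rw [eq_bot_iff]
  intro x hx
  rw [Submodule.mem_iInf] at hx
  haveI := finite_tensor_residue A B M
  refine e.injective (Finsupp.ext fun θ' => ?_)
  rw [map_zero, Finsupp.zero_apply, ← Submodule.mem_bot B,
    ← Ideal.iInf_pow_smul_eq_bot_of_isLocalRing (R := B) (M := M ⊗[A] k) (maximalIdeal B)
      (maximalIdeal.isMaximal B).ne_top, Submodule.mem_iInf]
  intro n
  have h1 : (Finsupp.lapply (R := B) θ' : (Θ →₀ M ⊗[A] k) →ₗ[B] M ⊗[A] k) (e x) ∈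
      Submodule.map ((Finsupp.lapply (R := B) θ' : (Θ →₀ M ⊗[A] k) →ₗ[B] M ⊗[A] k) ∘ₗ e.toLinearMap)
      (maximalIdeal B ^ n • ⊤ : Submodule B (M ⊗[A] ResidueField C)) := ⟨x, hx n, rfl⟩
  rw [Submodule.map_smul''] at h1
  exact Submodule.smul_mono le_rfl le_top h1

end Krull

section Aux

variable {B R : Type u} [CommRing B] [CommRing R] [Algebra B R]

theorem exists_maximal_ann {P : Type u} [AddCommGroup P] [Module R P] [Module B P] [IsScalarTower B R P]
    (I : Ideal B) (n : ℕ) (w : P) (hw : w ∉ (I ^ n • ⊤ : Submodule B P)) :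
    ∃ q : Ideal R, q.IsMaximal ∧ I ≤ q.comap (algebraMap B R) ∧ ∀ s : R, s • w = 0 → s ∈ q := by
  let N : Submodule B P := I ^ n • ⊤
  let In : Ideal R := (I ^ n).map (algebraMap B R)
  let J : Ideal R := (In • ⊤ : Submodule R P).colon {w}
  have key : ∀ r ∈ In, ∀ x : P, r • x ∈ N := fun r hr => by
    refine Submodule.span_induction (p := fun r _ => ∀ x : P, r • x ∈ N) ?_ (fun x => by rw [zero_smul]; exact zero_mem _)
      (fun a b _ _ ha hb x => by rw [add_smul]; exact add_mem (ha x) (hb x))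
      (fun c b _ hb x => by rw [smul_eq_mul, mul_comm, mul_smul]; exact hb _) hr
    rintro _ ⟨b, hb, rfl⟩ x
    rw [algebraMap_smul]
    exact Submodule.smul_mem_smul hb trivial
  have hle : ∀ x ∈ (In • ⊤ : Submodule R P), x ∈ N := fun x hx =>
    Submodule.smul_induction_on (p := fun x => x ∈ N) hx (fun r hr y _ => key r hr y) fun a b => add_mem
  have hJ : J ≠ ⊤ := fun h => hw <| hle w <| by
    have h1 : (1 : R) ∈ J := h ▸ trivial
    rwa [Submodule.mem_colon_singleton, one_smul] at h1
  obtain ⟨q, hq, hqJ⟩ := Ideal.exists_le_maximal J hJ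
  refine ⟨q, hq, fun b hb => hq.isPrime.mem_of_pow_mem n (hqJ ?_), fun s hs => hqJ ?_⟩
  · rw [Submodule.mem_colon_singleton, ← map_pow]
    exact Submodule.smul_mem_smul (Ideal.mem_map_of_mem _ (Ideal.pow_mem_pow hb n)) trivial
  · rw [Submodule.mem_colon_singleton, hs]
    exact zero_mem _

variable (M : Type u) [AddCommGroup M] [Module B M]

theorem smul_quot_tensor_eq_zero (I : Ideal R) {i : R} (hi : i ∈ I) (x : (R ⧸ I) ⊗[B] M) : i • x = 0 := by
  induction x using TensorProduct.induction_on with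
  | zero => exact smul_zero _
  | add a b ha hb => rw [smul_add, ha, hb, add_zero]
  | tmul r m =>
    rw [TensorProduct.smul_tmul']
    obtain ⟨r, rfl⟩ := Ideal.Quotient.mk_surjective r
    have : i • (Ideal.Quotient.mk I r) = 0 :=
      Ideal.Quotient.eq_zero_iff_mem.2 (Ideal.mul_mem_right _ _ hi)
    rw [this, TensorProduct.zero_tmul]

variable (S : Type u) [CommRing S] [Algebra R S]

theorem one_tmul_ne_zero_of_ann [IsLocalRing S] [Module.Flat R S] {P : Type u} [AddCommGroup P] [Module R P]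
    (w : P) (hann : ∀ s : R, s • w = 0 → algebraMap R S s ∈ maximalIdeal S) : (1 : S) ⊗ₜ[R] w ≠ 0 := by
  intro h1
  let μ : R →ₗ[R] P := LinearMap.toSpanSingleton R P w
  have hex : Function.Exact (LinearMap.ker μ).subtype μ := LinearMap.exact_subtype_ker_map μ
  have hex2 := Module.Flat.lTensor_exact S hex
  obtain ⟨y, hy⟩ := (hex2 ((1 : S) ⊗ₜ[R] (1 : R))).1 (by
    rw [LinearMap.lTensor_tmul]; simpa [μ] using h1)
  have hone : ∀ y : S ⊗[R] ↥(LinearMap.ker μ),
      TensorProduct.rid R S ((LinearMap.ker μ).subtype.lTensor S y) ∈ maximalIdeal S := fun y => by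
    induction y using TensorProduct.induction_on with
    | zero => simp
    | add a b ha hb => rw [map_add, map_add]; exact add_mem ha hb
    | tmul s r =>
      rw [LinearMap.lTensor_tmul, TensorProduct.rid_tmul, Algebra.smul_def]
      exact Ideal.mul_mem_right _ _ (hann r.1 r.2)
  have := hone y
  rw [hy, TensorProduct.rid_tmul, one_smul] at this
  exact (maximalIdeal.isMaximal S).ne_top ((Ideal.eq_top_iff_one _).2 this)

variable [Algebra B S] [IsScalarTower B R S]

theorem one_tmul_eq_zero_of_mem (I : Ideal R) {J : Type*} [Fintype J] (a : J → R) (e : J → M)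
    (hmem : ∑ j, algebraMap R S (a j) ⊗ₜ[B] e j ∈ (I.map (algebraMap R S) • ⊤ : Submodule S (S ⊗[B] M))) :
    (1 : S) ⊗ₜ[R] (∑ j, Ideal.Quotient.mk I (a j) ⊗ₜ[B] e j) = 0 := by
  let P := (R ⧸ I) ⊗[B] M
  let ψ : M →ₗ[B] S ⊗[R] P :=
    { toFun := fun m => (1 : S) ⊗ₜ[R] ((1 : R ⧸ I) ⊗ₜ[B] m)
      map_add' := fun x y => by rw [TensorProduct.tmul_add, TensorProduct.tmul_add]
      map_smul' := fun b m => by
        rw [TensorProduct.tmul_smul, RingHom.id_apply]
        rw [← algebraMap_smul R b ((1 : R ⧸ I) ⊗ₜ[B] m), TensorProduct.tmul_smul, algebraMap_smul] }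
  let θ : S ⊗[B] M →ₗ[S] S ⊗[R] P := LinearMap.liftBaseChange S ψ
  have h0 : ∀ i ∈ I, ∀ y : S ⊗[R] P, algebraMap R S i • y = 0 := fun i hi y => by
    induction y using TensorProduct.induction_on with
    | zero => exact smul_zero _
    | add a b ha hb => rw [smul_add, ha, hb, add_zero]
    | tmul s p => rw [algebraMap_smul, ← TensorProduct.tmul_smul, smul_quot_tensor_eq_zero M I hi, TensorProduct.tmul_zero]
  have hker : (I.map (algebraMap R S) • ⊤ : Submodule S (S ⊗[B] M)) ≤ LinearMap.ker θ := by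
    rw [Submodule.smul_le]
    intro r hr x _
    rw [LinearMap.mem_ker, map_smul]
    refine Submodule.span_induction (p := fun r _ => r • θ x = 0) ?_ (zero_smul _ _)
      (fun a b _ _ ha hb => by rw [add_smul, ha, hb, add_zero])
      (fun a b _ hb => by rw [smul_eq_mul, mul_smul, hb, smul_zero]) hr
    rintro _ ⟨i, hi, rfl⟩
    exact h0 i hi (θ x)
  refine Eq.trans ?_ (LinearMap.mem_ker.1 (hker hmem))
  rw [map_sum, TensorProduct.tmul_sum]
  refine Finset.sum_congr rfl fun j _ => ?_
  rw [show θ = LinearMap.liftBaseChange S ψ from rfl, LinearMap.liftBaseChange_tmul,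
    show ψ (e j) = (1 : S) ⊗ₜ[R] ((1 : R ⧸ I) ⊗ₜ[B] e j) from rfl]
  rw [algebraMap_smul, ← TensorProduct.tmul_smul, TensorProduct.smul_tmul']
  congr 2
  exact (mul_one _).symm

end Aux

section Prime

variable {A B C : Type u} [CommRing A] [CommRing B] [CommRing C] [IsLocalRing C] [Algebra A B] [Algebra A C]
  (M : Type u) [AddCommGroup M] [Module B M]

/-- The ideal generated by the maximal ideal of `C` in `B ⊗ C`. -/
noncomputable abbrev topIdeal : Ideal (B ⊗[A] C) :=
  (maximalIdeal C).map (Algebra.TensorProduct.includeRight : C →ₐ[A] B ⊗[A] C)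

variable [Module A M] [IsScalarTower A B M]

/-- `((B ⊗ C)/m_C) ⊗_B M = M ⊗_A κ(C)`. -/
noncomputable def fibreEquiv :
    ((B ⊗[A] C) ⧸ topIdeal (A := A) (B := B) (C := C)) ⊗[B] M ≃ₗ[B] M ⊗[A] ResidueField C :=
  TensorProduct.comm B _ M ≪≫ₗ
    AlgebraTensorModule.congr (LinearEquiv.refl B M)
      (Algebra.TensorProduct.tensorQuotientEquiv (R := A) B C B (maximalIdeal C)).symm.toLinearEquiv ≪≫ₗ
    AlgebraTensorModule.cancelBaseChange A B B M (ResidueField C)

/-- The combination `∑ a_j ⊗ e_j` in the fibre. -/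
noncomputable def fibreSum {J : Type*} [Fintype J] (a : J → C) (e : J → M) :
    ((B ⊗[A] C) ⧸ topIdeal (A := A) (B := B) (C := C)) ⊗[B] M :=
  ∑ j, (Ideal.Quotient.mk _ ((1 : B) ⊗ₜ[A] a j)) ⊗ₜ[B] e j

theorem sum_residue_tmul_eq_zero {J : Type*} [Fintype J] (a : J → C) (e : J → M)
    (h : fibreSum (A := A) (B := B) M a e = 0) : ∑ j, residue C (a j) ⊗ₜ[A] e j = 0 := by
  have h2 := congrArg (fun x => TensorProduct.comm A M (ResidueField C) (fibreEquiv M x)) h
  simp only [fibreSum, map_sum, map_zero] at h2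
  refine Eq.trans (Finset.sum_congr rfl fun j _ => ?_) h2
  simp [fibreEquiv]
  erw [AlgebraTensorModule.cancelBaseChange_tmul, TensorProduct.comm_tmul]
  rw [one_smul]
  rfl

variable [IsLocalRing A] [IsLocalRing B] [IsNoetherianRing B] [Module.Finite B M] [IsLocalHom (algebraMap A C)]

/-- A nonzero element of the fibre has its annihilator below a prime over both closed points. -/
theorem exists_prime_ann (w : ((B ⊗[A] C) ⧸ topIdeal (A := A) (B := B) (C := C)) ⊗[B] M) (hw : w ≠ 0) :
    ∃ q : PrimeSpectrum (B ⊗[A] C),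
      q.asIdeal.comap (Algebra.TensorProduct.includeLeftRingHom : B →+* B ⊗[A] C) = maximalIdeal B ∧
      q.asIdeal.comap (Algebra.TensorProduct.includeRight : C →ₐ[A] B ⊗[A] C) = maximalIdeal C ∧
      ∀ s : B ⊗[A] C, s • w = 0 → s ∈ q.asIdeal := by
  obtain ⟨n, hn⟩ : ∃ n : ℕ, w ∉ (maximalIdeal B ^ n • ⊤ :
      Submodule B (((B ⊗[A] C) ⧸ topIdeal (A := A) (B := B) (C := C)) ⊗[B] M)) := by
    by_contra! h
    refine hw ((fibreEquiv M).injective ?_)
    rw [map_zero, ← Submodule.mem_bot B, ← iInf_pow_smul_tensor_field A B M C, Submodule.mem_iInf]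
    intro n
    have h1 := Submodule.mem_map_of_mem (f := (fibreEquiv M).toLinearMap) (h n)
    rw [Submodule.map_smul'', Submodule.map_top, LinearEquiv.range] at h1
    exact h1
  obtain ⟨q, hq, hB, hann⟩ := exists_maximal_ann (R := B ⊗[A] C) (maximalIdeal B) n w hn
  haveI := hq.isPrime
  refine ⟨⟨q, hq.isPrime⟩, ?_, ?_, hann⟩
  · exact ((maximalIdeal.isMaximal B).eq_of_le (Ideal.IsPrime.ne_top inferInstance) hB).symm
  · exact ((maximalIdeal.isMaximal C).eq_of_le (Ideal.IsPrime.ne_top inferInstance) fun c hc =>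
      hann _ (smul_quot_tensor_eq_zero M _ (Ideal.mem_map_of_mem _ hc) w)).symm

omit [IsLocalRing A] [IsLocalRing B] [IsNoetherianRing B] [Module.Finite B M] [IsLocalHom (algebraMap A C)] in
/-- Detection after a flat local extension. -/
theorem fibreSum_not_mem (S : Type u) [CommRing S] [IsLocalRing S] [Algebra (B ⊗[A] C) S] [Algebra B S]
    [IsScalarTower B (B ⊗[A] C) S] [Module.Flat (B ⊗[A] C) S] {J : Type*} [Fintype J] (a : J → C) (e : J → M)
    (hann : ∀ s : B ⊗[A] C, s • fibreSum (A := A) (B := B) M a e = 0 →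
      algebraMap (B ⊗[A] C) S s ∈ maximalIdeal S) :
    ∑ j, algebraMap (B ⊗[A] C) S ((1 : B) ⊗ₜ[A] a j) ⊗ₜ[B] e j ∉
      ((topIdeal (A := A) (B := B) (C := C)).map (algebraMap (B ⊗[A] C) S) • ⊤ : Submodule S (S ⊗[B] M)) := by
  intro hmem
  refine one_tmul_ne_zero_of_ann (R := B ⊗[A] C) S (fibreSum (A := A) (B := B) M a e) hann ?_
  exact one_tmul_eq_zero_of_mem M S _ (fun j => (1 : B) ⊗ₜ[A] a j) e hmem

end Prime

end Groth.Agent.EGA43.FlatBC
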