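import Groth.Agent.EGA43.FlatBC.StalkFamily
import Mathlib.RingTheory.IntegralClosure.IsIntegralClosure.Basic
import Mathlib.RingTheory.Filtration
import Mathlib.RingTheory.Noetherian.Basic

/-!
# The adic topology of a finite injective extension (EGA IV 11.5.2)
-/

set_option autoImplicit false
set_option backward.isDefEq.respectTransparency false
set_option linter.style.haveILetI false

universe u

open CategoryTheory CategoryTheory.Limits AlgebraicGeometry IsLocalRing
open scoped Function

namespace Groth.Agent.EGA43.FlatBC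

theorem comap_map_pow_of_isMaximal {A S : Type u} [CommRing A] [CommRing S] [Algebra A S] (p : Ideal A) [p.IsMaximal]
    [IsLocalization.AtPrime S p] [IsLocalRing S] (n : ℕ) :
    Ideal.comap (algebraMap A S) (maximalIdeal S ^ n) = p ^ n := by
  rw [← IsLocalization.AtPrime.map_eq_maximalIdeal p S, ← Ideal.map_pow]
  refine le_antisymm (fun x hx => ?_) Ideal.le_comap_map
  obtain ⟨⟨⟨a, ha⟩, ⟨s, hs⟩⟩, he⟩ := (IsLocalization.mem_map_algebraMap_iff p.primeCompl S).1 hx
  have he' : algebraMap A S (x * s) = algebraMap A S a := by rw [map_mul]; exact he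
  obtain ⟨⟨t, ht⟩, hte⟩ := (IsLocalization.eq_iff_exists p.primeCompl S).1 he'
  have hmem : t * s * x ∈ p ^ n := by
    have : t * s * x = t * a := by rw [← hte]; ring
    rw [this]; exact Ideal.mul_mem_left _ _ ha
  have hts : t * s ∉ p := fun h => (Ideal.IsPrime.mem_or_mem inferInstance h).elim ht hs
  obtain ⟨c, q, hq, hcq⟩ := Ideal.IsMaximal.exists_inv ‹p.IsMaximal› hts
  have h1 : (1 : A) ∈ Ideal.span {t * s} ⊔ p ^ n := by
    have : (⊤ : Ideal A) = Ideal.span {t * s} ⊔ p ^ n := by
      refine (Ideal.sup_pow_eq_top ?_).symm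
      rw [Ideal.eq_top_iff_one, ← hcq]
      exact add_mem (Ideal.mem_sup_left (Ideal.mem_span_singleton'.2 ⟨c, rfl⟩)) (Ideal.mem_sup_right hq)
    exact this ▸ trivial
  obtain ⟨u, hu, v, hv, huv⟩ := Submodule.mem_sup.1 h1
  obtain ⟨d, rfl⟩ := Ideal.mem_span_singleton'.1 hu
  rw [← one_mul x, ← huv, add_mul, mul_assoc d]
  exact add_mem (Ideal.mul_mem_left _ _ hmem) (Ideal.mul_mem_right _ _ hv)

/-- The maximal ideals of a finite injective extension induce the adic topology. -/
theorem exists_iInf_pow_comap_le {A A' : Type u} [CommRing A] [IsNoetherianRing A] [IsLocalRing A] [CommRing A']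
    [Algebra A A'] [Module.Finite A A'] (hinj : Function.Injective (algebraMap A A')) (N : ℕ) :
    ∃ (s : Finset {p : PrimeSpectrum A' // p.asIdeal.IsMaximal}) (n : ℕ),
      ⨅ p ∈ s, Ideal.comap (algebraMap A A') (p.1.asIdeal ^ n) ≤ maximalIdeal A ^ N := by
  classical
  haveI : IsNoetherianRing A' := IsNoetherianRing.of_finite A A'
  let I : Ideal A' := (maximalIdeal A).map (algebraMap A A')
  have hfinmin := Ideal.finite_minimalPrimes_of_isNoetherianRing A' I
  have hover : ∀ q : Ideal A', q.IsPrime → I ≤ q → q.IsMaximal := fun q hq hle => by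
    haveI := hq
    haveI : Algebra.IsIntegral A A' := Algebra.IsIntegral.of_finite A A'
    refine Ideal.isMaximal_of_isIntegral_of_isMaximal_comap (R := A) q ?_
    have he : q.comap (algebraMap A A') = maximalIdeal A :=
      ((maximalIdeal.isMaximal A).eq_of_le (Ideal.IsPrime.ne_top inferInstance) (Ideal.map_le_iff_le_comap.1 hle)).symm
    rw [he]
    exact maximalIdeal.isMaximal A
  let S := hfinmin.toFinset.subtype (fun q => q.IsMaximal)
  let em : {q : Ideal A' // q.IsMaximal} → {p : PrimeSpectrum A' // p.asIdeal.IsMaximal} :=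
    fun q => ⟨⟨q.1, q.2.isPrime⟩, q.2⟩
  let s := S.image em
  obtain ⟨k, hk⟩ := I.exists_radical_pow_le_of_fg (IsNoetherian.noetherian _)
  have hrad : ⨅ p ∈ s, p.1.asIdeal ≤ I.radical := by
    rw [← Ideal.sInf_minimalPrimes]
    refine le_sInf fun q hq => ?_
    refine iInf₂_le_of_le (em ⟨q, hover q hq.isPrime hq.le⟩) ?_ le_rfl
    exact Finset.mem_image_of_mem _ (Finset.mem_subtype.2 (hfinmin.mem_toFinset.2 hq))
  obtain ⟨c, hc⟩ := Ideal.exists_pow_inf_eq_pow_smul (maximalIdeal A)
    (LinearMap.range (Algebra.linearMap A A'))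
  refine ⟨s, k * (c + N), fun a ha => ?_⟩
  simp only [Submodule.mem_iInf, Ideal.mem_comap] at ha
  have hmem : algebraMap A A' a ∈ I ^ (c + N) := by
    have hcop : ∀ m : ℕ, (↑s : Set {p : PrimeSpectrum A' // p.asIdeal.IsMaximal}).Pairwise
        (IsCoprime on fun p => p.1.asIdeal ^ m) := fun m p _ q _ hpq => by
      refine IsCoprime.pow ?_
      rw [Ideal.isCoprime_iff_sup_eq]
      exact p.2.coprime_of_ne q.2 fun h => hpq (Subtype.ext (PrimeSpectrum.ext h))
    have hprod : algebraMap A A' a ∈ ∏ p ∈ s, p.1.asIdeal ^ (k * (c + N)) := by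
      rw [Ideal.prod_eq_iInf_of_pairwise_isCoprime (hcop _)]
      simpa only [Submodule.mem_iInf] using ha
    rw [Finset.prod_pow] at hprod
    refine Ideal.pow_right_mono hk _ ?_
    rw [← pow_mul]
    refine Ideal.pow_right_mono (le_trans ?_ hrad) _ hprod
    exact le_iInf₂ fun p hp => Ideal.prod_le_inf.trans (Finset.inf_le hp)
  have h2 : algebraMap A A' a ∈ (maximalIdeal A ^ (c + N) • ⊤ : Submodule A A') ⊓
      LinearMap.range (Algebra.linearMap A A') := by
    refine ⟨?_, a, rfl⟩
    rw [Ideal.smul_top_eq_map, Ideal.map_pow]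
    exact hmem
  rw [hc (c + N) (Nat.le_add_right c N), Nat.add_sub_cancel_left] at h2
  have h3 : algebraMap A A' a ∈ Submodule.map (Algebra.linearMap A A') (maximalIdeal A ^ N • ⊤) := by
    rw [Submodule.map_smul'', Submodule.map_top]
    exact Submodule.smul_mono le_rfl inf_le_right h2
  obtain ⟨b, hb, hba⟩ := h3
  rw [Ideal.smul_eq_mul, Ideal.mul_top] at hb
  rwa [← hinj hba]

end Groth.Agent.EGA43.FlatBC
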