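import Groth.Agent.EGA43.FlatBC.Point
import Groth.Agent.ModStalk.Pullback
import Groth.Agent.FlatCrit.Tor
import Mathlib.RingTheory.Ideal.Quotient.Operations

/-!
# EGA IV 11.5.1/11.5.5: flatness tested on a family of base changes
-/

set_option autoImplicit false
set_option backward.isDefEq.respectTransparency false
set_option linter.style.haveILetI false

universe u

open CategoryTheory CategoryTheory.Limits AlgebraicGeometry IsLocalRing
open scoped TensorProduct

namespace Groth.Agent.EGA43.FlatBC

variable {X Y Y' : Scheme.{u}} (f : X ⟶ Y) (g : Y' ⟶ Y) (F : X.Modules)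

theorem mem_map_smul_top {C S N : Type u} [CommRing C] [CommRing S] [AddCommGroup N] [Module S N]
    (φ : C →+* S) (I : Ideal C) (v : N)
    (hv : letI := Module.compHom N φ; v ∈ (I • ⊤ : Submodule C N)) :
    v ∈ (I.map φ • ⊤ : Submodule S N) := by
  letI := Module.compHom N φ
  exact Submodule.smul_induction_on hv
    (fun r hr n _ => Submodule.smul_mem_smul (Ideal.mem_map_of_mem φ hr) trivial) fun a b => add_mem

theorem baseMap_ptY {x : X} {y' : Y'} (h : f x = g y') (z : ↑(pullback f g))
    (h1 : pullback.fst f g z = x) (h2 : pullback.snd f g z = y') :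
    baseMap f g h ≫ ptY f g z h2 = f.stalkMap x ≫ ptX f g z h1 := by
  apply Spec.map_injective
  rw [← cancel_mono (Y.fromSpecStalk (f x)), Spec.map_comp, Spec.map_comp, Category.assoc, Category.assoc,
    specMap_baseMap, Scheme.SpecMap_stalkMap_fromSpecStalk, reassoc_of% (specMap_ptY f g z h2),
    reassoc_of% (specMap_ptX f g z h1), pullback.condition]

theorem ptX_rfl (z : ↑(pullback f g)) : ptX f g z rfl = (pullback.fst f g).stalkMap z := by
  rw [ptX, TopCat.Presheaf.stalkSpecializes_refl, Category.id_comp]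

theorem ptY_rfl (z : ↑(pullback f g)) : ptY f g z rfl = (pullback.snd f g).stalkMap z := by
  rw [ptY, TopCat.Presheaf.stalkSpecializes_refl, Category.id_comp]

/-- Flatness of a pullback at a point, on the tensor model of the stalk. -/
theorem flat_pt {x : X} {y' : Y'} (z : ↑(pullback f g))
    (h1 : pullback.fst f g z = x) (h2 : pullback.snd f g z = y')
    (hF : FlatMod.IsFlatOverAt (pullback.snd f g) ((Scheme.Modules.pullback (pullback.fst f g)).obj F) z) :
    letI := (ptX f g z h1).hom.toAlgebra
    letI : Module (Y'.presheaf.stalk y')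
        ((pullback f g).presheaf.stalk z ⊗[X.presheaf.stalk x] F.presheaf.stalk x) :=
      Module.compHom _ (ptY f g z h2).hom
    Module.Flat (Y'.presheaf.stalk y')
      ((pullback f g).presheaf.stalk z ⊗[X.presheaf.stalk x] F.presheaf.stalk x) := by
  subst h1 h2
  rw [ptX_rfl, ptY_rfl]
  letI := ((pullback.fst f g).stalkMap z).hom.toAlgebra
  let P := (Scheme.Modules.pullback (pullback.fst f g)).obj F
  let e : P.presheaf.stalk z ≃ₗ[(pullback f g).presheaf.stalk z]
      ((pullback f g).presheaf.stalk z) ⊗[X.presheaf.stalk (pullback.fst f g z)]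
        (F.presheaf.stalk (pullback.fst f g z)) :=
    ((ModStalk.pullbackStalkIso (pullback.fst f g) z).app F).toLinearEquiv
  letI := FlatMod.moduleStalkOver (pullback.snd f g) P z
  letI : Module (Y'.presheaf.stalk (pullback.snd f g z))
      ((pullback f g).presheaf.stalk z ⊗[X.presheaf.stalk (pullback.fst f g z)]
        F.presheaf.stalk (pullback.fst f g z)) := Module.compHom _ ((pullback.snd f g).stalkMap z).hom
  let e' : P.presheaf.stalk z ≃ₗ[Y'.presheaf.stalk (pullback.snd f g z)]
      ((pullback f g).presheaf.stalk z ⊗[X.presheaf.stalk (pullback.fst f g z)]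
        F.presheaf.stalk (pullback.fst f g z)) :=
    { e.toAddEquiv with map_smul' := fun r m => map_smul e _ m }
  haveI : Module.Flat (Y'.presheaf.stalk (pullback.snd f g z)) (P.presheaf.stalk z) := hF
  exact Module.Flat.of_linearEquiv e'.symm

omit g

variable {ι : Type*} {Z : ι → Scheme.{u}} (g : ∀ i, Z i ⟶ Y) (y : ∀ i, Z i) (x : X)
  [IsNoetherianRing (X.presheaf.stalk x)] [Module.Finite (X.presheaf.stalk x) (F.presheaf.stalk x)]

/-- EGA IV 11.5.1: nilpotent maximal ideal. -/
theorem isFlatOverAt_of_family (hnil : IsNilpotent (maximalIdeal (Y.presheaf.stalk (f x))))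
    (h : ∀ i, f x = g i (y i)) (hinj : ∀ a, (∀ i, (baseMap f (g i) (h i)).hom a = 0) → a = 0)
    (hflat : ∀ (i : ι) (z : ↑(pullback f (g i))), pullback.fst f (g i) z = x → pullback.snd f (g i) z = y i →
      FlatMod.IsFlatOverAt (pullback.snd f (g i)) ((Scheme.Modules.pullback (pullback.fst f (g i))).obj F) z) :
    FlatMod.IsFlatOverAt f F x := by
  letI := FlatMod.moduleStalkOver f F x
  letI := (f.stalkMap x).hom.toAlgebra
  haveI : IsScalarTower (Y.presheaf.stalk (f x)) (X.presheaf.stalk x) (F.presheaf.stalk x) :=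
    IsScalarTower.of_compHom _ _ _
  letI : ∀ i, Algebra (Y.presheaf.stalk (f x)) ((Z i).presheaf.stalk (y i)) := fun i =>
    (baseMap f (g i) (h i)).hom.toAlgebra
  let W : ι → Type u := fun i =>
    {z : ↑(pullback f (g i)) // pullback.fst f (g i) z = x ∧ pullback.snd f (g i) z = y i}
  letI : ∀ i (z : W i), Algebra (X.presheaf.stalk x) ((pullback f (g i)).presheaf.stalk z.1) := fun i z =>
    (ptX f (g i) z.1 z.2.1).hom.toAlgebra
  letI iC : ∀ i (z : W i), Module ((Z i).presheaf.stalk (y i))
      ((pullback f (g i)).presheaf.stalk z.1 ⊗[X.presheaf.stalk x] F.presheaf.stalk x) := fun i z =>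
    Module.compHom _ (ptY f (g i) z.1 z.2.2).hom
  letI iA : ∀ i (z : W i), Module (Y.presheaf.stalk (f x))
      ((pullback f (g i)).presheaf.stalk z.1 ⊗[X.presheaf.stalk x] F.presheaf.stalk x) := fun i z =>
    Module.compHom _ (algebraMap (Y.presheaf.stalk (f x)) ((Z i).presheaf.stalk (y i)))
  haveI : ∀ i (z : W i), IsScalarTower (Y.presheaf.stalk (f x)) ((Z i).presheaf.stalk (y i))
      ((pullback f (g i)).presheaf.stalk z.1 ⊗[X.presheaf.stalk x] F.presheaf.stalk x) := fun i z =>
    IsScalarTower.of_compHom _ _ _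
  haveI : ∀ i (z : W i), Module.Flat ((Z i).presheaf.stalk (y i))
      ((pullback f (g i)).presheaf.stalk z.1 ⊗[X.presheaf.stalk x] F.presheaf.stalk x) := fun i z =>
    flat_pt f (g i) F z.1 z.2.1 z.2.2 (hflat i z.1 z.2.1 z.2.2)
  refine flat_of_family hnil (F.presheaf.stalk x) (fun i => (Z i).presheaf.stalk (y i)) hinj
    (fun i (z : W i) => (pullback f (g i)).presheaf.stalk z.1 ⊗[X.presheaf.stalk x] F.presheaf.stalk x)
    (fun i z => { toFun := fun m => (1 : (pullback f (g i)).presheaf.stalk z.1) ⊗ₜ[X.presheaf.stalk x] m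
                  map_add' := fun a b => TensorProduct.tmul_add _ a b
                  map_smul' := fun r m => ?_ }) ?_
  · show (1 : (pullback f (g i)).presheaf.stalk z.1) ⊗ₜ[X.presheaf.stalk x] ((f.stalkMap x).hom r • m) =
      (ptY f (g i) z.1 z.2.2).hom ((baseMap f (g i) (h i)).hom r) •
        ((1 : (pullback f (g i)).presheaf.stalk z.1) ⊗ₜ[X.presheaf.stalk x] m)
    rw [← TensorProduct.smul_tmul, TensorProduct.smul_tmul', smul_eq_mul, mul_one,
      Algebra.smul_def, mul_one]
    exact congrArg (· ⊗ₜ[X.presheaf.stalk x] m)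
      (ConcreteCategory.congr_hom (baseMap_ptY f (g i) (h i) z.1 z.2.1 z.2.2) r).symm
  · intro i J _ a e hz
    refine sum_residue_eq_zero f (g i) F x (y i) (h i) a e fun z h1 h2 => ?_
    letI := (ptX f (g i) z h1).hom.toAlgebra
    letI := iC i ⟨z, h1, h2⟩
    have hmem := hz ⟨z, h1, h2⟩
    have h3 := mem_map_smul_top (ptY f (g i) z h2).hom _ _ hmem
    convert h3 using 1
    refine Finset.sum_congr rfl fun j _ => ?_
    show _ = (ptY f (g i) z h2).hom (a j) • ((1 : (pullback f (g i)).presheaf.stalk z) ⊗ₜ[X.presheaf.stalk x] e j)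
    rw [TensorProduct.smul_tmul', smul_eq_mul, mul_one]

end Groth.Agent.EGA43.FlatBC
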