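import Groth.Agent.EGA43.FlatBC.PointAt
import Groth.Agent.EGA43.FlatBC.Adic

/-!
# EGA IV 11.5.3/11.5.6: primary residue extensions
-/

set_option autoImplicit false
set_option backward.isDefEq.respectTransparency false
set_option linter.style.haveILetI false

universe u

open CategoryTheory CategoryTheory.Limits AlgebraicGeometry IsLocalRing
open scoped TensorProduct

namespace Groth.Agent.EGA43.FlatBC

variable {X Y : Scheme.{u}} (f : X ⟶ Y) (F : X.Modules)
variable {ι : Type*} {Z : ι → Scheme.{u}} (g : ∀ i, Z i ⟶ Y) (y : ∀ i, Z i) (x : X)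
  [IsNoetherianRing (X.presheaf.stalk x)] [Module.Finite (X.presheaf.stalk x) (F.presheaf.stalk x)]

/-- EGA IV 11.5.1: nilpotent maximal ideal. -/
theorem isFlatOverAt_of_family_primary (hnil : IsNilpotent (maximalIdeal (Y.presheaf.stalk (f x))))
    (h : ∀ i, f x = g i (y i)) (hinj : ∀ a, (∀ i, (baseMap f (g i) (h i)).hom a = 0) → a = 0)
    (hprim : IsPrimaryAt f x)
    (hflat : ∀ i, ∃ z : ↑(pullback f (g i)), pullback.fst f (g i) z = x ∧ pullback.snd f (g i) z = y i ∧
      FlatMod.IsFlatOverAt (pullback.snd f (g i)) ((Scheme.Modules.pullback (pullback.fst f (g i))).obj F) z) :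
    FlatMod.IsFlatOverAt f F x := by
  letI := FlatMod.moduleStalkOver f F x
  letI := (f.stalkMap x).hom.toAlgebra
  haveI : IsScalarTower (Y.presheaf.stalk (f x)) (X.presheaf.stalk x) (F.presheaf.stalk x) :=
    IsScalarTower.of_compHom _ _ _
  letI : ∀ i, Algebra (Y.presheaf.stalk (f x)) ((Z i).presheaf.stalk (y i)) := fun i =>
    (baseMap f (g i) (h i)).hom.toAlgebra
  let W : ι → Type u := fun i =>
    {z : ↑(pullback f (g i)) // pullback.fst f (g i) z = x ∧ pullback.snd f (g i) z = y i ∧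
      FlatMod.IsFlatOverAt (pullback.snd f (g i)) ((Scheme.Modules.pullback (pullback.fst f (g i))).obj F) z}
  letI : ∀ i (z : W i), Algebra (X.presheaf.stalk x) ((pullback f (g i)).presheaf.stalk z.1) := fun i z =>
    (ptX f (g i) z.1 z.2.1).hom.toAlgebra
  letI iC : ∀ i (z : W i), Module ((Z i).presheaf.stalk (y i))
      ((pullback f (g i)).presheaf.stalk z.1 ⊗[X.presheaf.stalk x] F.presheaf.stalk x) := fun i z =>
    Module.compHom _ (ptY f (g i) z.1 z.2.2.1).hom
  letI iA : ∀ i (z : W i), Module (Y.presheaf.stalk (f x))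
      ((pullback f (g i)).presheaf.stalk z.1 ⊗[X.presheaf.stalk x] F.presheaf.stalk x) := fun i z =>
    Module.compHom _ (algebraMap (Y.presheaf.stalk (f x)) ((Z i).presheaf.stalk (y i)))
  haveI : ∀ i (z : W i), IsScalarTower (Y.presheaf.stalk (f x)) ((Z i).presheaf.stalk (y i))
      ((pullback f (g i)).presheaf.stalk z.1 ⊗[X.presheaf.stalk x] F.presheaf.stalk x) := fun i z =>
    IsScalarTower.of_compHom _ _ _
  haveI : ∀ i (z : W i), Module.Flat ((Z i).presheaf.stalk (y i))
      ((pullback f (g i)).presheaf.stalk z.1 ⊗[X.presheaf.stalk x] F.presheaf.stalk x) := fun i z =>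
    flat_pt f (g i) F z.1 z.2.1 z.2.2.1 z.2.2.2
  refine flat_of_family hnil (F.presheaf.stalk x) (fun i => (Z i).presheaf.stalk (y i)) hinj
    (fun i (z : W i) => (pullback f (g i)).presheaf.stalk z.1 ⊗[X.presheaf.stalk x] F.presheaf.stalk x)
    (fun i z => { toFun := fun m => (1 : (pullback f (g i)).presheaf.stalk z.1) ⊗ₜ[X.presheaf.stalk x] m
                  map_add' := fun a b => TensorProduct.tmul_add _ a b
                  map_smul' := fun r m => ?_ }) ?_
  · show (1 : (pullback f (g i)).presheaf.stalk z.1) ⊗ₜ[X.presheaf.stalk x] ((f.stalkMap x).hom r • m) =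
      (ptY f (g i) z.1 z.2.2.1).hom ((baseMap f (g i) (h i)).hom r) •
        ((1 : (pullback f (g i)).presheaf.stalk z.1) ⊗ₜ[X.presheaf.stalk x] m)
    rw [← TensorProduct.smul_tmul, TensorProduct.smul_tmul', smul_eq_mul, mul_one,
      Algebra.smul_def, mul_one]
    exact congrArg (· ⊗ₜ[X.presheaf.stalk x] m)
      (ConcreteCategory.congr_hom (baseMap_ptY f (g i) (h i) z.1 z.2.1 z.2.2.1) r).symm
  · intro i J _ a e hz
    obtain ⟨z, h1, h2, hz0⟩ := hflat i
    refine sum_residue_eq_zero_at f (g i) F x (y i) (h i) hprim a e z h1 h2 ?_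
    letI := (ptX f (g i) z h1).hom.toAlgebra
    letI := iC i ⟨z, h1, h2, hz0⟩
    have hmem := hz ⟨z, h1, h2, hz0⟩
    have h3 := mem_map_smul_top (ptY f (g i) z h2).hom _ _ hmem
    convert h3 using 1
    refine Finset.sum_congr rfl fun j _ => ?_
    show _ = (ptY f (g i) z h2).hom (a j) • ((1 : (pullback f (g i)).presheaf.stalk z) ⊗ₜ[X.presheaf.stalk x] e j)
    rw [TensorProduct.smul_tmul', smul_eq_mul, mul_one]

variable [IsNoetherianRing (Y.presheaf.stalk (f x))]

/-- EGA IV 11.5.5: the family induces the adic topology. -/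
theorem isFlatOverAt_of_adic_family_primary (h : ∀ i, f x = g i (y i))
    (htop : ∀ N : ℕ, ∃ s : Finset (ι × ℕ), ⨅ p ∈ s,
      Ideal.comap (baseMap f (g p.1) (h p.1)).hom (maximalIdeal ((Z p.1).presheaf.stalk (y p.1)) ^ p.2) ≤
        maximalIdeal (Y.presheaf.stalk (f x)) ^ N)
    (hprim : IsPrimaryAt f x)
    (hflat : ∀ i, ∃ z : ↑(pullback f (g i)), pullback.fst f (g i) z = x ∧ pullback.snd f (g i) z = y i ∧
      FlatMod.IsFlatOverAt (pullback.snd f (g i)) ((Scheme.Modules.pullback (pullback.fst f (g i))).obj F) z) :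
    FlatMod.IsFlatOverAt f F x := by
  letI := FlatMod.moduleStalkOver f F x
  letI := (f.stalkMap x).hom.toAlgebra
  haveI : IsScalarTower (Y.presheaf.stalk (f x)) (X.presheaf.stalk x) (F.presheaf.stalk x) :=
    IsScalarTower.of_compHom _ _ _
  letI : ∀ i, Algebra (Y.presheaf.stalk (f x)) ((Z i).presheaf.stalk (y i)) := fun i =>
    (baseMap f (g i) (h i)).hom.toAlgebra
  let W : ι → Type u := fun i =>
    {z : ↑(pullback f (g i)) // pullback.fst f (g i) z = x ∧ pullback.snd f (g i) z = y i ∧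
      FlatMod.IsFlatOverAt (pullback.snd f (g i)) ((Scheme.Modules.pullback (pullback.fst f (g i))).obj F) z}
  letI : ∀ i (z : W i), Algebra (X.presheaf.stalk x) ((pullback f (g i)).presheaf.stalk z.1) := fun i z =>
    (ptX f (g i) z.1 z.2.1).hom.toAlgebra
  letI iC : ∀ i (z : W i), Module ((Z i).presheaf.stalk (y i))
      ((pullback f (g i)).presheaf.stalk z.1 ⊗[X.presheaf.stalk x] F.presheaf.stalk x) := fun i z =>
    Module.compHom _ (ptY f (g i) z.1 z.2.2.1).hom
  letI iA : ∀ i (z : W i), Module (Y.presheaf.stalk (f x))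
      ((pullback f (g i)).presheaf.stalk z.1 ⊗[X.presheaf.stalk x] F.presheaf.stalk x) := fun i z =>
    Module.compHom _ (algebraMap (Y.presheaf.stalk (f x)) ((Z i).presheaf.stalk (y i)))
  haveI : ∀ i (z : W i), IsScalarTower (Y.presheaf.stalk (f x)) ((Z i).presheaf.stalk (y i))
      ((pullback f (g i)).presheaf.stalk z.1 ⊗[X.presheaf.stalk x] F.presheaf.stalk x) := fun i z =>
    IsScalarTower.of_compHom _ _ _
  haveI : ∀ i (z : W i), Module.Flat ((Z i).presheaf.stalk (y i))
      ((pullback f (g i)).presheaf.stalk z.1 ⊗[X.presheaf.stalk x] F.presheaf.stalk x) := fun i z =>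
    flat_pt f (g i) F z.1 z.2.1 z.2.2.1 z.2.2.2
  haveI : IsLocalHom (algebraMap (Y.presheaf.stalk (f x)) (X.presheaf.stalk x)) :=
    inferInstanceAs (IsLocalHom (f.stalkMap x).hom)
  refine FlatCrit.flat_of_quotFlat_pow (S := X.presheaf.stalk x) (maximalIdeal _) ?_ fun n => ?_
  · rw [IsLocalRing.jacobson_eq_maximalIdeal ⊥ bot_ne_top, Ideal.map_le_iff_le_comap]
    intro r hr
    exact map_nonunit _ r hr
  obtain ⟨s, hs⟩ := htop (n + 1)
  let L : ∀ p : ↥s, Ideal ((Z p.1.1).presheaf.stalk (y p.1.1)) := fun p => maximalIdeal _ ^ (p.1.2 + 1)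
  let J : Ideal (Y.presheaf.stalk (f x)) :=
    ⨅ p : ↥s, (L p).comap (baseMap f (g p.1.1) (h p.1.1)).hom
  have hJ : J ≤ maximalIdeal (Y.presheaf.stalk (f x)) ^ (n + 1) := by
    refine le_trans (le_iInf₂ fun p hp => ?_) hs
    exact (iInf_le _ (⟨p, hp⟩ : ↥s)).trans (Ideal.comap_mono (Ideal.pow_le_pow_right (Nat.le_succ _)))
  have hK : maximalIdeal (Y.presheaf.stalk (f x)) ^ (s.sup (fun p => p.2) + 1) ≤ J := le_iInf fun p => by
    rw [← Ideal.map_le_iff_le_comap, Ideal.map_pow]
    refine le_trans (Ideal.pow_le_pow_right (Nat.add_le_add_right (Finset.le_sup (f := fun p => p.2) p.2) 1))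
      (Ideal.pow_right_mono ?_ _)
    haveI := isLocalHom_baseMap f (g p.1.1) (h p.1.1)
    rw [Ideal.map_le_iff_le_comap]
    intro r hr
    exact map_nonunit _ r hr
  suffices hq : FlatCrit.QuotFlat (Y.presheaf.stalk (f x)) (F.presheaf.stalk x) J from
    fun P Q _ _ _ _ i hQ hi => hq i (fun r hr b => hQ r (Ideal.pow_le_pow_right (Nat.le_succ n) (hJ hr)) b) hi
  refine quotFlat_of_family J (hJ.trans (Ideal.pow_le_self (Nat.succ_ne_zero n))) _ hK (F.presheaf.stalk x)
    (fun p : ↥s => (Z p.1.1).presheaf.stalk (y p.1.1)) L (fun p => Ideal.pow_le_self (Nat.succ_ne_zero _))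
    (fun a => Submodule.mem_iInf _)
    (fun p (z : W p.1.1) => (pullback f (g p.1.1)).presheaf.stalk z.1 ⊗[X.presheaf.stalk x] F.presheaf.stalk x)
    (fun p z => { toFun := fun m => (1 : (pullback f (g p.1.1)).presheaf.stalk z.1) ⊗ₜ[X.presheaf.stalk x] m
                  map_add' := fun a b => TensorProduct.tmul_add _ a b
                  map_smul' := fun r m => ?_ }) ?_
  · show (1 : (pullback f (g p.1.1)).presheaf.stalk z.1) ⊗ₜ[X.presheaf.stalk x] ((f.stalkMap x).hom r • m) =
      (ptY f (g p.1.1) z.1 z.2.2.1).hom ((baseMap f (g p.1.1) (h p.1.1)).hom r) •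
        ((1 : (pullback f (g p.1.1)).presheaf.stalk z.1) ⊗ₜ[X.presheaf.stalk x] m)
    rw [← TensorProduct.smul_tmul, TensorProduct.smul_tmul', smul_eq_mul, mul_one,
      Algebra.smul_def, mul_one]
    exact congrArg (· ⊗ₜ[X.presheaf.stalk x] m)
      (ConcreteCategory.congr_hom (baseMap_ptY f (g p.1.1) (h p.1.1) z.1 z.2.1 z.2.2.1) r).symm
  · intro p T _ a e hz
    let i := p.1.1
    obtain ⟨z, h1, h2, hz0⟩ := hflat i
    refine sum_residue_eq_zero_at f (g i) F x (y i) (h i) hprim a e z h1 h2 ?_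
    letI := (ptX f (g i) z h1).hom.toAlgebra
    letI := iC i ⟨z, h1, h2, hz0⟩
    have hmem := hz ⟨z, h1, h2, hz0⟩
    have h3 := mem_map_smul_top (ptY f (g i) z h2).hom _ _ hmem
    convert h3 using 1
    refine Finset.sum_congr rfl fun j _ => ?_
    show _ = (ptY f (g i) z h2).hom (a j) • ((1 : (pullback f (g i)).presheaf.stalk z) ⊗ₜ[X.presheaf.stalk x] e j)
    rw [TensorProduct.smul_tmul', smul_eq_mul, mul_one]

theorem isPrimaryAt_of_residueFieldMap
    (hprim : letI := (f.residueFieldMap x).hom.toAlgebra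
      ∀ a : ↑(X.residueField x), IsSeparable ↑(Y.residueField (f x)) a → a ∈ (f.residueFieldMap x).hom.range) :
    IsPrimaryAt f x := by
  exact hprim

end Groth.Agent.EGA43.FlatBC
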