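import Groth.Prelude.Def_FlatMod2
import Groth.Agent.EGA43.FlatBC.Detect
import Mathlib.AlgebraicGeometry.Stalk
import Mathlib.AlgebraicGeometry.Pullbacks

/-!
# EGA IV 11.5: points of a base change over two closed points
-/

set_option autoImplicit false
set_option backward.isDefEq.respectTransparency false
set_option linter.style.haveILetI false

universe u

open CategoryTheory CategoryTheory.Limits AlgebraicGeometry IsLocalRing
open scoped TensorProduct

namespace Groth.Agent.EGA43.FlatBC

variable {X Y Y' : Scheme.{u}} (f : X ⟶ Y) (g : Y' ⟶ Y)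

/-- The map `O_{Y,f x} → O_{Y',y'}`. -/
noncomputable def baseMap {x : X} {y' : Y'} (h : f x = g y') : Y.presheaf.stalk (f x) ⟶ Y'.presheaf.stalk y' :=
  Y.presheaf.stalkSpecializes (Inseparable.of_eq h.symm).specializes ≫ g.stalkMap y'

theorem specMap_baseMap {x : X} {y' : Y'} (h : f x = g y') :
    Spec.map (baseMap f g h) ≫ Y.fromSpecStalk (f x) = Y'.fromSpecStalk y' ≫ g := by
  rw [baseMap, Spec.map_comp, Category.assoc, Scheme.SpecMap_stalkSpecializes_fromSpecStalk,
    Scheme.SpecMap_stalkMap_fromSpecStalk]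

theorem isLocalHom_baseMap {x : X} {y' : Y'} (h : f x = g y') : IsLocalHom (baseMap f g h).hom := by
  have : IsIso (Y.presheaf.stalkSpecializes (Inseparable.of_eq h.symm).specializes) :=
    inferInstanceAs (IsIso (Y.presheaf.stalkCongr (Inseparable.of_eq h.symm).symm).hom)
  unfold baseMap
  rw [CommRingCat.hom_comp]
  infer_instance

/-- The map `O_{X,x} → O_z` at a point `z` over `x`. -/
noncomputable def ptX {x : X} (z : ↑(pullback f g)) (hz : pullback.fst f g z = x) :
    X.presheaf.stalk x ⟶ (pullback f g).presheaf.stalk z :=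
  X.presheaf.stalkSpecializes (Inseparable.of_eq hz).specializes ≫ (pullback.fst f g).stalkMap z

/-- The map `O_{Y',y'} → O_z` at a point `z` over `y'`. -/
noncomputable def ptY {y' : Y'} (z : ↑(pullback f g)) (hz : pullback.snd f g z = y') :
    Y'.presheaf.stalk y' ⟶ (pullback f g).presheaf.stalk z :=
  Y'.presheaf.stalkSpecializes (Inseparable.of_eq hz).specializes ≫ (pullback.snd f g).stalkMap z

theorem specMap_ptX {x : X} (z : ↑(pullback f g)) (hz : pullback.fst f g z = x) :
    Spec.map (ptX f g z hz) ≫ X.fromSpecStalk x = (pullback f g).fromSpecStalk z ≫ pullback.fst f g := by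
  rw [ptX, Spec.map_comp, Category.assoc, Scheme.SpecMap_stalkSpecializes_fromSpecStalk,
    Scheme.SpecMap_stalkMap_fromSpecStalk]

theorem specMap_ptY {y' : Y'} (z : ↑(pullback f g)) (hz : pullback.snd f g z = y') :
    Spec.map (ptY f g z hz) ≫ Y'.fromSpecStalk y' = (pullback f g).fromSpecStalk z ≫ pullback.snd f g := by
  rw [ptY, Spec.map_comp, Category.assoc, Scheme.SpecMap_stalkSpecializes_fromSpecStalk,
    Scheme.SpecMap_stalkMap_fromSpecStalk]

section Points

variable (K A B : Type u) [CommRing K] [CommRing A] [CommRing B] [Algebra K A] [Algebra K B]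
  (a : Spec (CommRingCat.of A) ⟶ X) (b : Spec (CommRingCat.of B) ⟶ Y') (m : Spec (CommRingCat.of K) ⟶ Y)

/-- The inclusion `A → A ⊗ B`. -/
noncomputable abbrev inl : CommRingCat.of A ⟶ CommRingCat.of (A ⊗[K] B) :=
  CommRingCat.ofHom Algebra.TensorProduct.includeLeftRingHom

/-- The inclusion `B → A ⊗ B`. -/
noncomputable abbrev inr : CommRingCat.of B ⟶ CommRingCat.of (A ⊗[K] B) :=
  CommRingCat.ofHom (Algebra.TensorProduct.includeRight : B →ₐ[K] A ⊗[K] B).toRingHom

theorem inl_inr_comm : CommRingCat.ofHom (algebraMap K A) ≫ inl K A B =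
    CommRingCat.ofHom (algebraMap K B) ≫ inr K A B := by
  ext r
  show (algebraMap K A r) ⊗ₜ[K] (1 : B) = (1 : A) ⊗ₜ[K] (algebraMap K B r)
  rw [Algebra.algebraMap_eq_smul_one, Algebra.algebraMap_eq_smul_one, TensorProduct.smul_tmul]

theorem tensor_lift_cond (ha : a ≫ f = Spec.map (CommRingCat.ofHom (algebraMap K A)) ≫ m)
    (hb : b ≫ g = Spec.map (CommRingCat.ofHom (algebraMap K B)) ≫ m) :
    (Spec.map (inl K A B) ≫ a) ≫ f = (Spec.map (inr K A B) ≫ b) ≫ g := by
  rw [Category.assoc, Category.assoc, ha, hb, ← Category.assoc, ← Category.assoc, ← Spec.map_comp, ← Spec.map_comp,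
    inl_inr_comm]

end Points

variable (F : X.Modules) (x : X) (y' : Y') (h : f x = g y')

/-- The fibre element of a combination vanishes if it does so at all points over `(x, y')`. -/
theorem sum_residue_eq_zero [IsNoetherianRing (X.presheaf.stalk x)]
    [Module.Finite (X.presheaf.stalk x) (F.presheaf.stalk x)] {J : Type u} [Fintype J]
    (c : J → Y'.presheaf.stalk y') (e : J → F.presheaf.stalk x)
    (hz : ∀ (z : ↑(pullback f g)) (h1 : pullback.fst f g z = x) (h2 : pullback.snd f g z = y'),
      letI := (ptX f g z h1).hom.toAlgebra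
      ∑ j, (ptY f g z h2).hom (c j) ⊗ₜ[X.presheaf.stalk x] e j ∈
        ((maximalIdeal (Y'.presheaf.stalk y')).map (ptY f g z h2).hom • ⊤ :
          Submodule ((pullback f g).presheaf.stalk z)
            ((pullback f g).presheaf.stalk z ⊗[X.presheaf.stalk x] F.presheaf.stalk x))) :
    letI := FlatMod.moduleStalkOver f F x
    letI := (baseMap f g h).hom.toAlgebra
    ∑ j, residue (Y'.presheaf.stalk y') (c j) ⊗ₜ[Y.presheaf.stalk (f x)] e j = 0 := by
  letI := FlatMod.moduleStalkOver f F x
  letI := (baseMap f g h).hom.toAlgebra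
  letI := (f.stalkMap x).hom.toAlgebra
  haveI : IsScalarTower (Y.presheaf.stalk (f x)) (X.presheaf.stalk x) (F.presheaf.stalk x) :=
    IsScalarTower.of_compHom _ _ _
  haveI : IsLocalHom (algebraMap (Y.presheaf.stalk (f x)) (Y'.presheaf.stalk y')) := isLocalHom_baseMap f g h
  let K := Y.presheaf.stalk (f x)
  let B := X.presheaf.stalk x
  let C := Y'.presheaf.stalk y'
  let M := F.presheaf.stalk x
  by_contra hne
  obtain ⟨q, hqB, hqC, hann⟩ := exists_prime_ann (A := K) (B := B) (C := C) M (fibreSum (A := K) (B := B) M c e)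
    fun h0 => hne (sum_residue_tmul_eq_zero M c e h0)
  let R := CommRingCat.of (B ⊗[K] C)
  let P : Spec R := q
  let jm : Spec R ⟶ pullback f g :=
    pullback.lift (Spec.map (inl K B C) ≫ X.fromSpecStalk x) (Spec.map (inr K B C) ≫ Y'.fromSpecStalk y')
      (tensor_lift_cond f g K B C _ _ (Y.fromSpecStalk (f x))
        (Scheme.SpecMap_stalkMap_fromSpecStalk f (x := x)).symm (specMap_baseMap f g h).symm)
  have hjf : jm ≫ pullback.fst f g = Spec.map (inl K B C) ≫ X.fromSpecStalk x := pullback.lift_fst _ _ _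
  have hjs : jm ≫ pullback.snd f g = Spec.map (inr K B C) ≫ Y'.fromSpecStalk y' := pullback.lift_snd _ _ _
  have h1 : pullback.fst f g (jm P) = x := by
    rw [← Scheme.Hom.comp_apply, hjf, Scheme.Hom.comp_apply]
    have hc : Spec.map (inl K B C) P = closedPoint B := PrimeSpectrum.ext hqB
    rw [hc]
    exact Scheme.fromSpecStalk_closedPoint
  have h2 : pullback.snd f g (jm P) = y' := by
    rw [← Scheme.Hom.comp_apply, hjs, Scheme.Hom.comp_apply]
    have hc : Spec.map (inr K B C) P = closedPoint C := PrimeSpectrum.ext hqC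
    rw [hc]
    exact Scheme.fromSpecStalk_closedPoint
  let S := (Spec R).presheaf.stalk P
  let ts : R ⟶ S := StructureSheaf.toStalk (B ⊗[K] C) P
  have hts : Spec.map ts = (Spec R).fromSpecStalk P := (Spec.fromSpecStalk_eq' R P).symm
  let σ := jm.stalkMap P
  have hX : ptX f g (jm P) h1 ≫ σ = inl K B C ≫ ts := by
    apply Spec.map_injective
    rw [← cancel_mono (X.fromSpecStalk x), Spec.map_comp, Spec.map_comp, Category.assoc, specMap_ptX,
      reassoc_of% (Scheme.SpecMap_stalkMap_fromSpecStalk jm (x := P)), hjf, hts, Category.assoc]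
  have hY : ptY f g (jm P) h2 ≫ σ = inr K B C ≫ ts := by
    apply Spec.map_injective
    rw [← cancel_mono (Y'.fromSpecStalk y'), Spec.map_comp, Spec.map_comp, Category.assoc, specMap_ptY,
      reassoc_of% (Scheme.SpecMap_stalkMap_fromSpecStalk jm (x := P)), hjs, hts, Category.assoc]
  letI : Algebra (B ⊗[K] C) S := ts.hom.toAlgebra
  haveI : IsLocalization.AtPrime S q.asIdeal := StructureSheaf.IsLocalization.to_stalk (B ⊗[K] C) q
  letI : Algebra B S := (ts.hom.comp Algebra.TensorProduct.includeLeftRingHom).toAlgebra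
  haveI : IsScalarTower B (B ⊗[K] C) S := IsScalarTower.of_algebraMap_eq fun r => rfl
  haveI : Module.Flat (B ⊗[K] C) S := IsLocalization.flat S q.asIdeal.primeCompl
  refine fibreSum_not_mem (A := K) (B := B) (C := C) M S c e
    (fun s hs => (IsLocalization.AtPrime.to_map_mem_maximal_iff S q.asIdeal s).2 (hann s hs)) ?_
  letI := (ptX f g (jm P) h1).hom.toAlgebra
  let σl : (pullback f g).presheaf.stalk (jm P) →ₗ[B] S :=
    { toFun := σ.hom
      map_add' := map_add σ.hom
      map_smul' := fun r s => by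
        rw [Algebra.smul_def, map_mul, RingHom.id_apply, Algebra.smul_def]
        exact congrArg (· * _) (ConcreteCategory.congr_hom hX r) }
  let L := σl.rTensor M
  have hL : ∀ r y, L (r • y) = σ.hom r • L y := fun r y => by
    induction y using TensorProduct.induction_on with
    | zero => simp
    | add a b ha hb => rw [smul_add, map_add, map_add, ha, hb, smul_add]
    | tmul s m =>
      rw [TensorProduct.smul_tmul', smul_eq_mul, LinearMap.rTensor_tmul, LinearMap.rTensor_tmul,
        TensorProduct.smul_tmul', smul_eq_mul]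
      exact congrArg (· ⊗ₜ[B] m) (map_mul σ.hom r s)
  have hI : ((maximalIdeal C).map (ptY f g (jm P) h2).hom).map σ.hom ≤
      (topIdeal (A := K) (B := B) (C := C)).map (algebraMap (B ⊗[K] C) S) := by
    rw [Ideal.map_map, Ideal.map_le_iff_le_comap]
    intro r hr
    rw [Ideal.mem_comap, RingHom.comp_apply]
    erw [ConcreteCategory.congr_hom hY r]
    exact Ideal.mem_map_of_mem _ (Ideal.mem_map_of_mem _ hr)
  have hmem : ∀ y ∈ (((maximalIdeal C).map (ptY f g (jm P) h2).hom) • ⊤ :
      Submodule ((pullback f g).presheaf.stalk (jm P)) _), L y ∈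
      ((topIdeal (A := K) (B := B) (C := C)).map (algebraMap (B ⊗[K] C) S) • ⊤ : Submodule S (S ⊗[B] M)) := fun y hy => by
    refine Submodule.smul_induction_on hy (fun r hr y _ => ?_) fun a b ha hb => by rw [map_add]; exact add_mem ha hb
    rw [hL]
    exact Submodule.smul_mem_smul (hI (Ideal.mem_map_of_mem _ hr)) trivial
  have hfin := hmem _ (hz (jm P) h1 h2)
  rw [map_sum] at hfin
  convert hfin using 1
  refine Finset.sum_congr rfl fun j _ => ?_
  rw [LinearMap.rTensor_tmul]
  exact congrArg (· ⊗ₜ[B] e j) (ConcreteCategory.congr_hom hY (c j)).symm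

end Groth.Agent.EGA43.FlatBC
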