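import Groth.Agent.AssSch12.FieldTensor
import Groth.Agent.CAlgH3.GeomBridge
import Groth.Agent.EGA43.FlatBC.SpecBase
import Groth.Agent.S1540

/-!
# Tensor products with a primary field extension
-/

set_option autoImplicit false
set_option backward.isDefEq.respectTransparency false
set_option linter.style.haveILetI false

universe u

open CategoryTheory CategoryTheory.Limits AlgebraicGeometry TensorProduct
open scoped IntermediateField.algebraAdjoinAdjoin
attribute [local instance] Curv2.resAlgebra

namespace Groth.Agent.EGA43.FlatBC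

open Groth.Agent

/-- An integral torsion-free algebra over a domain with a unique minimal prime. -/
theorem mem_prime_of_torsionFree (D : Type u) {R : Type u} [CommRing D] [IsDomain D] [CommRing R] [Algebra D R]
    [Algebra.IsIntegral D R] (hprime : (nilradical R).IsPrime)
    (hreg : ∀ d : D, d ≠ 0 → ∀ w : R, algebraMap D R d * w = 0 → w = 0) {x a : R} (hxa : x * a = 0) (ha : a ≠ 0)
    (p : Ideal R) [p.IsPrime] : x ∈ p := by
  let S : Submonoid R := (nonZeroDivisors D).map (algebraMap D R).toMonoidHom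
  let T : Ideal R := (⊥ : Ideal R).colon {a}
  have hdisj : Disjoint (T : Set R) S := by
    rw [Set.disjoint_left]
    rintro r hrT ⟨d, hd, rfl⟩
    have h0 : algebraMap D R d * a = 0 := by
      have := Submodule.mem_colon_singleton.1 hrT
      rwa [Ideal.mem_bot] at this
    exact ha (hreg d (nonZeroDivisors.ne_zero hd) a h0)
  obtain ⟨q, hq, hTq, hqS⟩ := Ideal.exists_le_prime_disjoint (I := T) S hdisj
  haveI := hq
  have hqc : q.comap (algebraMap D R) = ⊥ := by
    rw [eq_bot_iff]
    intro d hd
    rw [Ideal.mem_bot]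
    by_contra h0
    exact Set.disjoint_left.1 hqS hd ⟨d, mem_nonZeroDivisors_of_ne_zero h0, rfl⟩
  have hxq : x ∈ q := hTq (by rw [Submodule.mem_colon_singleton, smul_eq_mul, Ideal.mem_bot]; exact hxa)
  by_cases hne : nilradical R = q
  · exact (nilradical_le_prime p) (hne ▸ hxq)
  · haveI := hprime
    have hlt := Ideal.IsIntegral.comap_lt_comap (R := D) (lt_of_le_of_ne (nilradical_le_prime q) hne)
    rw [hqc] at hlt
    exact absurd hlt not_lt_bot

variable (k : Type u) [Field k] (K : Type u) [Field K] [Algebra k K] (L : Type u) [Field L] [Algebra k L]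

/-- A zero divisor of `L ⊗ K` lies in every prime when the spectrum is irreducible. -/
theorem mem_prime_of_mul_eq_zero [IrreducibleSpace (PrimeSpectrum (L ⊗[k] K))] {x a : L ⊗[k] K}
    (hxa : x * a = 0) (ha : a ≠ 0) (p : Ideal (L ⊗[k] K)) [p.IsPrime] : x ∈ p := by
  obtain ⟨s, hs⟩ := exists_isTranscendenceBasis k L
  let L₀ := IntermediateField.adjoin k (Set.range ((↑) : s → L))
  haveI : Algebra.IsAlgebraic L₀ L := hs.isAlgebraic_field
  haveI : IsDomain (L₀ ⊗[k] K) := by
    let P := Algebra.adjoin k (Set.range ((↑) : s → L))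
    let e : MvPolynomial s k ≃ₐ[k] P := hs.1.aevalEquiv
    haveI : IsDomain (P ⊗[k] K) := MulEquiv.isDomain (MvPolynomial s K)
      (((Algebra.TensorProduct.congr e (AlgEquiv.refl (R := k) (A₁ := K))).symm.trans
        (Algebra.TensorProduct.comm k (MvPolynomial s k) K)).toRingEquiv.trans
        (MvPolynomial.algebraTensorAlgEquiv (σ := s) k K).toRingEquiv).toMulEquiv
    exact AssSch12.isDomain_fractionRing_tensor k K P L₀
  let φ : L₀ ⊗[k] K →ₐ[k] L ⊗[k] K :=
    Algebra.TensorProduct.map (IsScalarTower.toAlgHom k L₀ L) (AlgHom.id k K)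
  have hreg : ∀ d : L₀ ⊗[k] K, d ≠ 0 → ∀ w, φ d * w = 0 → w = 0 :=
    fun d hd w hw => AssSch12.eq_zero_of_map_mul k K L₀ L hd hw
  letI : Algebra (L₀ ⊗[k] K) (L ⊗[k] K) := φ.toRingHom.toAlgebra
  haveI : Algebra.IsIntegral (L₀ ⊗[k] K) (L ⊗[k] K) := ⟨fun t => by
    induction t with
    | zero => exact isIntegral_zero
    | add x y hx hy => exact hx.add hy
    | tmul l c =>
      rw [show l ⊗ₜ[k] c = (l ⊗ₜ 1 : L ⊗[k] K) * φ (1 ⊗ₜ c) by simp [φ]]
      refine IsIntegral.mul ?_ isIntegral_algebraMap
      obtain ⟨p, hp, he⟩ := Algebra.IsIntegral.isIntegral (R := L₀) l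
      refine ⟨p.map (Algebra.TensorProduct.includeLeftRingHom : L₀ →+* L₀ ⊗[k] K), hp.map _, ?_⟩
      rw [Polynomial.eval₂_map]
      have e : φ.toRingHom.comp (Algebra.TensorProduct.includeLeftRingHom : L₀ →+* L₀ ⊗[k] K) =
          (Algebra.TensorProduct.includeLeftRingHom : L →+* L ⊗[k] K).comp (algebraMap L₀ L) := by
        ext x; simp [φ]
      rw [show algebraMap (L₀ ⊗[k] K) (L ⊗[k] K) = φ.toRingHom from rfl, e,
        show l ⊗ₜ[k] (1 : K) = (Algebra.TensorProduct.includeLeftRingHom : L →+* L ⊗[k] K) l from rfl,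
        ← Polynomial.hom_eval₂, he, map_zero]⟩
  exact mem_prime_of_torsionFree (L₀ ⊗[k] K) (PrimeSpectrum.irreducibleSpace_iff_isPrime_nilradical.1 inferInstance)
    hreg hxa ha p

variable {k} in
/-- A primary extension stays irreducible after any field extension. -/
theorem irreducibleSpace_tensor_of_primary
    (hprim : ∀ a : L, IsSeparable k a → a ∈ (algebraMap k L).range) :
    IrreducibleSpace (PrimeSpectrum (L ⊗[k] K)) := by
  let X : Scheme.{u} := Spec (CommRingCat.of L)
  letI : X.Over (Spec (CommRingCat.of k)) := ⟨CAlgH3.GeomBridge.str k L⟩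
  haveI : IrreducibleSpace X := (inferInstance : IrreducibleSpace (PrimeSpectrum L))
  let ξ : X := genericPoint X
  haveI := subsingleton_spec L
  have hb := toStalk_bijective L ξ (by
    rw [Subsingleton.elim ξ (IsLocalRing.closedPoint L)]
    rfl)
  let ψ : CommRingCat.of L ⟶ X.residueField ξ := StructureSheaf.toStalk (CommRingCat.of L) ξ ≫ X.residue ξ
  have hψb : Function.Bijective ψ.hom := ⟨ψ.hom.injective, (IsLocalRing.residue_surjective).comp hb.2⟩
  have hψ : Spec.map ψ = X.fromSpecResidueField ξ := by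
    rw [Spec.map_comp, ← Spec.fromSpecStalk_eq' (CommRingCat.of L) ξ]
    rfl
  have hcomp : CommRingCat.ofHom (algebraMap k L) ≫ ψ = CommRingCat.ofHom (Curv2.resMap k X ξ) := by
    apply Spec.map_injective
    rw [Spec.map_comp, hψ, ← DimLib.baseRingHom_eq_resMap X ξ, DimLib.specMap_baseRingHom]
    rfl
  let e : L ≃ₐ[k] X.residueField ξ := AlgEquiv.ofRingEquiv (f := RingEquiv.ofBijective ψ.hom hψb) fun r =>
    ConcreteCategory.congr_hom hcomp r
  have hgi : GeometricallyIrreducible (CAlgH3.GeomBridge.str k L) := by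
    refine (Groth.Agent.S1540.result k X).2 fun a hasep => ?_
    obtain ⟨b, rfl⟩ := e.surjective a
    obtain ⟨c, rfl⟩ := hprim b (by
      have := hasep
      unfold IsSeparable at this ⊢
      rwa [minpoly.algEquiv_eq e b] at this)
    exact ⟨c, (e.commutes c).symm⟩
  haveI := (CAlgH3.GeomBridge.irreducible_iff k L).1 hgi K
  exact (PrimeSpectrum.homeomorphOfRingEquiv
    (Algebra.TensorProduct.comm k K L).toRingEquiv).irreducibleSpace_iff.1 inferInstance

end Groth.Agent.EGA43.FlatBC
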