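import Groth.Agent.EGA43.FlatBC.Detect
import Groth.Agent.EGA43.FlatBC.PrimaryField
import Groth.Agent.FlatCrit.Tor
import Mathlib.LinearAlgebra.TensorProduct.RightExactness

/-!
# EGA IV 11.5.3: detection at a single point for primary residue extensions
-/

set_option autoImplicit false
set_option backward.isDefEq.respectTransparency false
set_option linter.style.haveILetI false

universe u

namespace Groth.Agent.EGA43.FlatBC

open TensorProduct IsLocalRing Function

section Devissage

variable {B : Type u} [CommRing B] [IsLocalRing B] (Q : Type u) [AddCommGroup Q] [Module B Q]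
  (σ : Q →ₗ[B] Q) (hσ : Injective (σ.lTensor (B ⧸ maximalIdeal B)))

include hσ in
theorem lTensor_injective_of_killed_maximal (V : Type u) [AddCommGroup V] [Module B V]
    (hV : ∀ r ∈ maximalIdeal B, ∀ v : V, r • v = 0) : Injective (σ.lTensor V) := by
  classical
  let κ := B ⧸ maximalIdeal B
  letI := Ideal.Quotient.field (maximalIdeal B)
  letI : Module κ V := (Module.isTorsionBySet_iff_subset_annihilator (R := B) (M := V)
    (s := (maximalIdeal B : Set B))).2 (fun r hr => Module.mem_annihilator.2 (hV r hr)) |>.module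
  haveI : IsScalarTower B κ V := ⟨fun r s v => by
    obtain ⟨s, rfl⟩ := Ideal.Quotient.mk_surjective s
    exact mul_smul r s v⟩
  obtain ⟨Θ, θ⟩ := Module.Free.exists_basis (R := κ) (M := V)
  let e : V ⊗[B] Q ≃ₗ[B] (Θ →₀ κ ⊗[B] Q) :=
    TensorProduct.congr (θ.repr.restrictScalars B) (LinearEquiv.refl B Q) ≪≫ₗ
      TensorProduct.finsuppLeft B B κ Q Θ
  have hc : ∀ x i, e (σ.lTensor V x) i = σ.lTensor κ (e x i) := fun x i => by
    induction x using TensorProduct.induction_on with
    | zero => simp
    | add a b ha hb => simp only [map_add, Finsupp.add_apply, ha, hb]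
    | tmul v q =>
      simp only [e, LinearMap.lTensor_tmul, LinearEquiv.trans_apply, TensorProduct.congr_tmul,
        TensorProduct.finsuppLeft_apply_tmul_apply, LinearEquiv.refl_apply]
  intro a b hab
  refine e.injective (Finsupp.ext fun i => hσ ?_)
  rw [← hc, ← hc, hab]

include hσ in
/-- Dévissage of injectivity. -/
theorem lTensor_injective_of_killed (𝔞 : Ideal B) (hQ : FlatCrit.QuotFlat B Q 𝔞) (n : ℕ) :
    ∀ (W : Type u) [AddCommGroup W] [Module B W], (∀ r ∈ 𝔞, ∀ w : W, r • w = 0) →
      (∀ r ∈ maximalIdeal B ^ n, ∀ w : W, r • w = 0) → Injective (σ.lTensor W) := by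
  induction n with
  | zero =>
    intro W _ _ _ hn
    have : Subsingleton W := ⟨fun a b => by
      rw [← one_smul B a, ← one_smul B b, hn 1 (by simp) a, hn 1 (by simp) b]⟩
    intro a b _
    exact Subsingleton.elim a b
  | succ n ih =>
    intro W _ _ h𝔞 hn
    let W₁ : Submodule B W := maximalIdeal B • ⊤
    have hW₁ : ∀ r ∈ maximalIdeal B ^ n, ∀ w : W₁, r • w = 0 := fun r hr w => Subtype.ext <| by
      show r • (w : W) = 0
      refine Submodule.smul_induction_on (p := fun x => r • x = 0) w.2 (fun s hs y _ => ?_)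
        fun a b ha hb => by rw [smul_add, ha, hb, add_zero]
      rw [← mul_smul, hn _ (by rw [pow_succ]; exact Ideal.mul_mem_mul hr hs)]
    have h₁ := ih W₁ (fun r hr w => Subtype.ext (h𝔞 r hr w)) hW₁
    have h₂ := lTensor_injective_of_killed_maximal Q σ hσ (W ⧸ W₁) fun r hr v => by
      obtain ⟨v, rfl⟩ := Submodule.Quotient.mk_surjective _ v
      rw [← Submodule.Quotient.mk_smul, Submodule.Quotient.mk_eq_zero]
      exact Submodule.smul_mem_smul hr trivial
    rw [← LinearMap.ker_eq_bot, LinearMap.ker_eq_bot']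
    intro x hx
    have hx0 : W₁.mkQ.rTensor Q x = 0 := h₂ (by
      rw [map_zero, ← LinearMap.comp_apply, LinearMap.lTensor_comp_rTensor, ← LinearMap.rTensor_comp_lTensor,
        LinearMap.comp_apply, hx, map_zero])
    obtain ⟨y, rfl⟩ := ((rTensor_exact Q (LinearMap.exact_subtype_mkQ W₁) (Submodule.mkQ_surjective _)) x).1 hx0
    have hi := hQ W₁.subtype h𝔞 (Submodule.injective_subtype _)
    rw [h₁ (a₁ := y) (a₂ := 0) (hi ?_), map_zero]
    rw [map_zero, map_zero, ← LinearMap.comp_apply, LinearMap.rTensor_comp_lTensor, ← LinearMap.lTensor_comp_rTensor,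
      LinearMap.comp_apply]
    exact hx

end Devissage

section Prime

variable {A B C : Type u} [CommRing A] [CommRing B] [CommRing C] [IsLocalRing A] [IsLocalRing B] [IsLocalRing C]
  [Algebra A B] [Algebra A C] [IsLocalHom (algebraMap A B)] [IsLocalHom (algebraMap A C)]

theorem quotFlat_tensor_of_quotFlat (N : Type u) [AddCommGroup N] [Module A N] (a : Ideal A)
    (h : FlatCrit.QuotFlat A N a) : FlatCrit.QuotFlat B (B ⊗[A] N) (a.map (algebraMap A B)) := by
  intro W W' _ _ _ _ i hW' hi
  letI := Module.compHom W (algebraMap A B)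
  letI := Module.compHom W' (algebraMap A B)
  haveI : IsScalarTower A B W := IsScalarTower.of_compHom _ _ _
  haveI : IsScalarTower A B W' := IsScalarTower.of_compHom _ _ _
  let e := AlgebraTensorModule.cancelBaseChange A B B W N
  let e' := AlgebraTensorModule.cancelBaseChange A B B W' N
  have hinj := h (i.restrictScalars A) (fun r hr w => by
    rw [← algebraMap_smul B r w]; exact hW' _ (Ideal.mem_map_of_mem _ hr) w) hi
  have hc : ∀ z, e' (i.rTensor (B ⊗[A] N) z) = (i.restrictScalars A).rTensor N (e z) := fun z => by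
    induction z using TensorProduct.induction_on with
    | zero => simp
    | add a b ha hb => simp only [map_add, ha, hb]
    | tmul w y =>
      induction y using TensorProduct.induction_on with
      | zero => simp
      | add y y' hy hy' => simp only [TensorProduct.tmul_add, map_add, hy, hy']
      | tmul b n =>
        simp only [e, e', AlgebraTensorModule.cancelBaseChange_tmul, LinearMap.rTensor_tmul,
          LinearMap.restrictScalars_apply, map_smul]
  intro x y hxy
  apply e.injective
  apply hinj
  rw [← hc, ← hc, hxy]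

/-- The map to the tensor product of the residue fields. -/
noncomputable abbrev resTensor :
    B ⊗[A] C →ₐ[A] ResidueField B ⊗[A] ResidueField C :=
  Algebra.TensorProduct.map (IsScalarTower.toAlgHom A B (ResidueField B)) (IsScalarTower.toAlgHom A C (ResidueField C))

theorem resTensor_surjective : Surjective (resTensor (A := A) (B := B) (C := C)) := fun x => by
  induction x using TensorProduct.induction_on with
  | zero => exact ⟨0, map_zero _⟩
  | add a b ha hb =>
    obtain ⟨a, rfl⟩ := ha
    obtain ⟨b, rfl⟩ := hb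
    exact ⟨a + b, map_add _ a b⟩
  | tmul b c =>
    obtain ⟨b, rfl⟩ := residue_surjective b
    obtain ⟨c, rfl⟩ := residue_surjective c
    exact ⟨b ⊗ₜ c, Algebra.TensorProduct.map_tmul _ _ b c⟩

theorem ker_resTensor : RingHom.ker (resTensor (A := A) (B := B) (C := C)) =
    (maximalIdeal B).map (algebraMap B (B ⊗[A] C)) ⊔ topIdeal (A := A) (B := B) (C := C) := by
  rw [Algebra.TensorProduct.map_ker _ _ residue_surjective residue_surjective]
  congr 1
  · rw [show RingHom.ker (IsScalarTower.toAlgHom A B (ResidueField B)) = maximalIdeal B from ker_residue]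
    rfl
  · rw [show RingHom.ker (IsScalarTower.toAlgHom A C (ResidueField C)) = maximalIdeal C from ker_residue]

variable (M : Type u) [AddCommGroup M] [Module B M] [Module A M] [IsScalarTower A B M]
  [IsNoetherianRing B] [Module.Finite B M]

/-- EGA IV 11.5.3: the annihilator lies in every prime over both closed points. -/
theorem mem_of_smul_eq_zero_primary
    (hprim : ∀ a : ResidueField B, IsSeparable (ResidueField A) a → a ∈ (algebraMap (ResidueField A) (ResidueField B)).range)
    (w : ((B ⊗[A] C) ⧸ topIdeal (A := A) (B := B) (C := C)) ⊗[B] M) (hw : w ≠ 0) (s : B ⊗[A] C) (hs : s • w = 0)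
    (q : Ideal (B ⊗[A] C)) [q.IsPrime]
    (hqB : q.comap (Algebra.TensorProduct.includeLeftRingHom : B →+* B ⊗[A] C) = maximalIdeal B)
    (hqC : q.comap (Algebra.TensorProduct.includeRight : C →ₐ[A] B ⊗[A] C) = maximalIdeal C) : s ∈ q := by
  classical
  by_contra hsq
  let Q := (B ⊗[A] C) ⧸ topIdeal (A := A) (B := B) (C := C)
  let σ : Q →ₗ[B] Q := (LinearMap.lsmul (B ⊗[A] C) Q s).restrictScalars B
  -- the residue field case
  have hker : RingHom.ker (resTensor (A := A) (B := B) (C := C)) ≤ q := by
    rw [ker_resTensor]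
    refine sup_le ?_ ?_
    · rw [Ideal.map_le_iff_le_comap]
      exact hqB.ge
    · rw [topIdeal, Ideal.map_le_iff_le_comap]
      exact hqC.ge
  haveI := CompatibleSMul.of_algebraMap_surjective (R := A) (A := ResidueField A) (M := ResidueField B)
    (N := ResidueField C) residue_surjective
  let ε : ResidueField B ⊗[A] ResidueField C →ₐ[A] ResidueField B ⊗[ResidueField A] ResidueField C :=
    Algebra.TensorProduct.mapOfCompatibleSMul (ResidueField A) A A (ResidueField B) (ResidueField C)
  have hεb : Bijective ε :=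
    (TensorProduct.equivOfCompatibleSMul (ResidueField A) A A (ResidueField B) (ResidueField C)).bijective
  let τ : B ⊗[A] C →+* ResidueField B ⊗[ResidueField A] ResidueField C :=
    ε.toRingHom.comp (resTensor (A := A) (B := B) (C := C)).toRingHom
  have hτ : ∀ r, τ r = 0 ↔ r ∈ RingHom.ker (resTensor (A := A) (B := B) (C := C)) := fun r => by
    rw [RingHom.mem_ker]
    exact ⟨fun h => hεb.1 (h.trans (map_zero ε).symm), fun h => by show ε (resTensor (A := A) (B := B) (C := C) r) = 0; rw [h, map_zero]⟩
  have hτs : Surjective τ := hεb.2.comp resTensor_surjective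
  haveI := irreducibleSpace_tensor_of_primary (k := ResidueField A) (ResidueField C) (ResidueField B) hprim
  haveI : (q.map τ).IsPrime := Ideal.map_isPrime_of_surjective hτs (fun r hr => hker ((hτ r).1 hr))
  have hσ : Injective (σ.lTensor (B ⧸ maximalIdeal B)) := by
    rw [← LinearMap.ker_eq_bot, LinearMap.ker_eq_bot']
    intro x hx
    obtain ⟨y, rfl⟩ := TensorProduct.mk_surjective B Q (B ⧸ maximalIdeal B) Ideal.Quotient.mk_surjective x
    rw [TensorProduct.mk_apply, LinearMap.lTensor_tmul, ← TensorProduct.mk_apply, ← LinearMap.mem_ker,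
      LinearMap.ker_tensorProductMk] at hx
    rw [← LinearMap.mem_ker, LinearMap.ker_tensorProductMk]
    obtain ⟨r, rfl⟩ := Ideal.Quotient.mk_surjective y
    have hmem : ∀ t : B ⊗[A] C, (Ideal.Quotient.mk (topIdeal (A := A) (B := B) (C := C)) t ∈
        (maximalIdeal B • ⊤ : Submodule B Q)) ↔ t ∈ RingHom.ker (resTensor (A := A) (B := B) (C := C)) := by
      intro t
      rw [Ideal.smul_top_eq_map, ker_resTensor, Submodule.restrictScalars_mem,
        IsScalarTower.algebraMap_eq B (B ⊗[A] C) Q, ← Ideal.map_map]
      exact Ideal.mem_quotient_iff_mem_sup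
    have hsr : s * r ∈ RingHom.ker (resTensor (A := A) (B := B) (C := C)) := (hmem _).1 hx
    rw [hmem]
    by_contra hr
    refine hsq ?_
    have h1 : τ s ∈ q.map τ := mem_prime_of_mul_eq_zero (ResidueField A) (ResidueField C) (ResidueField B)
      (a := τ r) (by rw [← map_mul]; exact (hτ _).2 hsr) (fun h => hr ((hτ r).1 h)) _
    obtain ⟨s', hs', he⟩ := (Ideal.mem_map_iff_of_surjective τ hτs).1 h1
    have h2 : s - s' ∈ q := hker ((hτ _).1 (by rw [map_sub, he, sub_self]))
    simpa using add_mem h2 hs'
  -- the flatness of the fibre over the residue field of `A`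
  have hQ : FlatCrit.QuotFlat B Q ((maximalIdeal A).map (algebraMap A B)) :=
    (quotFlat_tensor_of_quotFlat (ResidueField C) _ (FlatCrit.quotFlat_of_field _)).of_linearEquiv
      (Algebra.TensorProduct.tensorQuotientEquiv (R := A) B C B (maximalIdeal C)).toLinearEquiv
  let 𝔞 := (maximalIdeal A).map (algebraMap A B)
  have h𝔞Q : ∀ r ∈ 𝔞, ∀ x : Q ⊗[B] M, r • x = 0 := fun r hr x => by
    rw [← algebraMap_smul (B ⊗[A] C) r x]
    refine smul_quot_tensor_eq_zero M _ ?_ x
    have hle : 𝔞 ≤ (topIdeal (A := A) (B := B) (C := C)).comap (algebraMap B (B ⊗[A] C)) := by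
      rw [Ideal.map_le_iff_le_comap]
      intro a ha
      show algebraMap A B a ⊗ₜ[A] (1 : C) ∈ topIdeal (A := A) (B := B) (C := C)
      rw [Algebra.algebraMap_eq_smul_one, TensorProduct.smul_tmul, ← Algebra.algebraMap_eq_smul_one]
      exact Ideal.mem_map_of_mem _ (map_nonunit (algebraMap A C) a ha)
    exact hle hr
  obtain ⟨n, hn⟩ : ∃ n : ℕ, w ∉ (maximalIdeal B ^ n • ⊤ : Submodule B (Q ⊗[B] M)) := by
    by_contra! h
    refine hw ((fibreEquiv M).injective ?_)
    rw [map_zero, ← Submodule.mem_bot B, ← iInf_pow_smul_tensor_field A B M C, Submodule.mem_iInf]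
    intro n
    have h1 := Submodule.mem_map_of_mem (f := (fibreEquiv M).toLinearMap) (h n)
    rw [Submodule.map_smul'', Submodule.map_top, LinearEquiv.range] at h1
    exact h1
  let N : Submodule B M := (𝔞 ⊔ maximalIdeal B ^ n) • ⊤
  have hinj := lTensor_injective_of_killed Q σ hσ 𝔞 hQ n (M ⧸ N)
    (fun r hr v => by
      obtain ⟨v, rfl⟩ := Submodule.Quotient.mk_surjective _ v
      rw [← Submodule.Quotient.mk_smul, Submodule.Quotient.mk_eq_zero]
      exact Submodule.smul_mem_smul (Ideal.mem_sup_left hr) trivial)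
    (fun r hr v => by
      obtain ⟨v, rfl⟩ := Submodule.Quotient.mk_surjective _ v
      rw [← Submodule.Quotient.mk_smul, Submodule.Quotient.mk_eq_zero]
      exact Submodule.smul_mem_smul (Ideal.mem_sup_right hr) trivial)
  have hσw : ∀ x : Q ⊗[B] M, σ.rTensor M x = s • x := fun x => by
    induction x using TensorProduct.induction_on with
    | zero => simp
    | add a b ha hb => rw [map_add, ha, hb, smul_add]
    | tmul a m => rw [LinearMap.rTensor_tmul, TensorProduct.smul_tmul']; rfl
  have h0 : N.mkQ.rTensor Q (TensorProduct.comm B Q M w) = 0 := hinj <| by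
    rw [map_zero, ← LinearMap.comp_apply, LinearMap.lTensor_comp_rTensor, ← LinearMap.rTensor_comp_lTensor,
      LinearMap.comp_apply]
    have hcomm : ∀ x : Q ⊗[B] M, σ.lTensor M (TensorProduct.comm B Q M x) = TensorProduct.comm B Q M (σ.rTensor M x) := fun x => by
      induction x using TensorProduct.induction_on with
      | zero => simp
      | add a b ha hb => simp only [map_add, ha, hb]
      | tmul a m => simp only [LinearMap.rTensor_tmul, TensorProduct.comm_tmul, LinearMap.lTensor_tmul]
    rw [hcomm, hσw, hs, map_zero, map_zero]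
  obtain ⟨y, hy⟩ := ((rTensor_exact Q (LinearMap.exact_subtype_mkQ N) (Submodule.mkQ_surjective _)) _).1 h0
  apply hn
  have hyN : ∀ y : ↥N ⊗[B] Q, (TensorProduct.comm B Q M).symm (N.subtype.rTensor Q y) ∈
      (maximalIdeal B ^ n • ⊤ : Submodule B (Q ⊗[B] M)) := fun y => by
    induction y using TensorProduct.induction_on with
    | zero => simp
    | add a b ha hb => rw [map_add, map_add]; exact add_mem ha hb
    | tmul m x =>
      obtain ⟨m, hm⟩ := m
      rw [LinearMap.rTensor_tmul, Submodule.subtype_apply, TensorProduct.comm_symm_tmul]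
      refine Submodule.smul_induction_on (p := fun v => x ⊗ₜ[B] v ∈ (maximalIdeal B ^ n • ⊤ : Submodule B (Q ⊗[B] M))) hm
        (fun r hr v _ => ?_) fun a b ha hb => by rw [TensorProduct.tmul_add]; exact add_mem ha hb
      obtain ⟨r₁, hr₁, r₂, hr₂, rfl⟩ := Submodule.mem_sup.1 hr
      rw [add_smul, TensorProduct.tmul_add, TensorProduct.tmul_smul, h𝔞Q r₁ hr₁, zero_add, TensorProduct.tmul_smul]
      exact Submodule.smul_mem_smul hr₂ trivial
  have := hyN y
  rwa [hy, LinearEquiv.symm_apply_apply] at this

end Prime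

end Groth.Agent.EGA43.FlatBC
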