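import Groth.Agent.EGA43.FlatBC.Point
import Groth.Agent.EGA43.FlatBC.PrimaryDetect

/-!
# EGA IV 11.5.3: one point suffices for primary residue extensions
-/

set_option autoImplicit false
set_option backward.isDefEq.respectTransparency false
set_option linter.style.haveILetI false

universe u

open CategoryTheory CategoryTheory.Limits AlgebraicGeometry IsLocalRing
open scoped TensorProduct

namespace Groth.Agent.EGA43.FlatBC

theorem isLocalHom_pt {X : Scheme.{u}} {a b : X} {R : CommRingCat.{u}} (φ : X.presheaf.stalk b ⟶ R)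
    (hab : a ⤳ b) (hba : b ⤳ a) (ψ : X.presheaf.stalk a ⟶ R) [IsLocalHom ψ.hom]
    (e : φ = X.presheaf.stalkSpecializes hab ≫ ψ) : IsLocalHom φ.hom := by
  have : IsIso (X.presheaf.stalkSpecializes hab) :=
    inferInstanceAs (IsIso (X.presheaf.stalkCongr (hab.antisymm hba)).symm.hom)
  subst e
  rw [CommRingCat.hom_comp]
  infer_instance

variable {X Y Y' : Scheme.{u}} (f : X ⟶ Y) (g : Y' ⟶ Y) (F : X.Modules) (x : X) (y' : Y') (h : f x = g y')

/-- The residue field of the point is primary over that of its image, in stalk form. -/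
def IsPrimaryAt : Prop :=
  letI := (f.stalkMap x).hom.toAlgebra
  haveI : IsLocalHom (algebraMap (Y.presheaf.stalk (f x)) (X.presheaf.stalk x)) :=
    inferInstanceAs (IsLocalHom (f.stalkMap x).hom)
  ∀ a : ResidueField (X.presheaf.stalk x), IsSeparable (ResidueField (Y.presheaf.stalk (f x))) a →
    a ∈ (algebraMap (ResidueField (Y.presheaf.stalk (f x))) (ResidueField (X.presheaf.stalk x))).range

theorem sum_residue_eq_zero_at [IsNoetherianRing (X.presheaf.stalk x)]
    [Module.Finite (X.presheaf.stalk x) (F.presheaf.stalk x)] (hprim : IsPrimaryAt f x) {J : Type u} [Fintype J]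
    (c : J → Y'.presheaf.stalk y') (e : J → F.presheaf.stalk x)
    (z : ↑(pullback f g)) (k1 : pullback.fst f g z = x) (k2 : pullback.snd f g z = y')
    (hz : letI := (ptX f g z k1).hom.toAlgebra
      ∑ j, (ptY f g z k2).hom (c j) ⊗ₜ[X.presheaf.stalk x] e j ∈
        ((maximalIdeal (Y'.presheaf.stalk y')).map (ptY f g z k2).hom • ⊤ :
          Submodule ((pullback f g).presheaf.stalk z)
            ((pullback f g).presheaf.stalk z ⊗[X.presheaf.stalk x] F.presheaf.stalk x))) :
    letI := FlatMod.moduleStalkOver f F x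
    letI := (baseMap f g h).hom.toAlgebra
    ∑ j, residue (Y'.presheaf.stalk y') (c j) ⊗ₜ[Y.presheaf.stalk (f x)] e j = 0 := by
  letI := FlatMod.moduleStalkOver f F x
  letI := (baseMap f g h).hom.toAlgebra
  letI := (f.stalkMap x).hom.toAlgebra
  haveI : IsScalarTower (Y.presheaf.stalk (f x)) (X.presheaf.stalk x) (F.presheaf.stalk x) :=
    IsScalarTower.of_compHom _ _ _
  haveI : IsLocalHom (algebraMap (Y.presheaf.stalk (f x)) (Y'.presheaf.stalk y')) := isLocalHom_baseMap f g h
  haveI : IsLocalHom (algebraMap (Y.presheaf.stalk (f x)) (X.presheaf.stalk x)) :=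
    inferInstanceAs (IsLocalHom (f.stalkMap x).hom)
  let K := Y.presheaf.stalk (f x)
  let B := X.presheaf.stalk x
  let C := Y'.presheaf.stalk y'
  let M := F.presheaf.stalk x
  let R := CommRingCat.of (B ⊗[K] C)
  let jm : Spec R ⟶ pullback f g :=
    pullback.lift (Spec.map (inl K B C) ≫ X.fromSpecStalk x) (Spec.map (inr K B C) ≫ Y'.fromSpecStalk y')
      (tensor_lift_cond f g K B C _ _ (Y.fromSpecStalk (f x))
        (Scheme.SpecMap_stalkMap_fromSpecStalk f (x := x)).symm (specMap_baseMap f g h).symm)
  have hjf : jm ≫ pullback.fst f g = Spec.map (inl K B C) ≫ X.fromSpecStalk x := pullback.lift_fst _ _ _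
  have hjs : jm ≫ pullback.snd f g = Spec.map (inr K B C) ≫ Y'.fromSpecStalk y' := pullback.lift_snd _ _ _
  -- the prime of `z`
  have hcomm : f.stalkMap x ≫ ptX f g z k1 = baseMap f g h ≫ ptY f g z k2 := by
    apply Spec.map_injective
    rw [← cancel_mono (Y.fromSpecStalk (f x)), Spec.map_comp, Spec.map_comp, Category.assoc, Category.assoc,
      specMap_baseMap, Scheme.SpecMap_stalkMap_fromSpecStalk, reassoc_of% (specMap_ptY f g z k2),
      reassoc_of% (specMap_ptX f g z k1), pullback.condition]
  letI : Algebra K ((pullback f g).presheaf.stalk z) := (baseMap f g h ≫ ptY f g z k2).hom.toAlgebra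
  let πX : B →ₐ[K] (pullback f g).presheaf.stalk z :=
    { (ptX f g z k1).hom with commutes' := fun r => ConcreteCategory.congr_hom hcomm r }
  let πY : C →ₐ[K] (pullback f g).presheaf.stalk z :=
    { (ptY f g z k2).hom with commutes' := fun r => rfl }
  let π : R ⟶ (pullback f g).presheaf.stalk z :=
    CommRingCat.ofHom (Algebra.TensorProduct.lift πX πY (fun _ _ => Commute.all _ _)).toRingHom
  have hπX : inl K B C ≫ π = ptX f g z k1 := by
    ext r
    exact (Algebra.TensorProduct.lift_tmul πX πY (fun _ _ => Commute.all _ _) r 1).trans ((congrArg (πX r * ·) (map_one πY)).trans (mul_one _))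
  have hπY : inr K B C ≫ π = ptY f g z k2 := by
    ext r
    exact (Algebra.TensorProduct.lift_tmul πX πY (fun _ _ => Commute.all _ _) 1 r).trans ((congrArg (· * πY r) (map_one πX)).trans (one_mul _))
  have hjπ : Spec.map π ≫ jm = (pullback f g).fromSpecStalk z := by
    apply pullback.hom_ext
    · rw [Category.assoc, hjf, ← Category.assoc, ← Spec.map_comp, hπX, specMap_ptX]
    · rw [Category.assoc, hjs, ← Category.assoc, ← Spec.map_comp, hπY, specMap_ptY]
  let q : PrimeSpectrum (B ⊗[K] C) := Spec.map π (closedPoint ((pullback f g).presheaf.stalk z))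
  let P : Spec R := q
  have hP : jm P = z := by
    show jm (Spec.map π _) = z
    rw [← Scheme.Hom.comp_apply, hjπ]
    exact Scheme.fromSpecStalk_closedPoint
  haveI := isLocalHom_pt (ptX f g z k1) (X := X) (Inseparable.of_eq k1).specializes (Inseparable.of_eq k1).specializes' ((pullback.fst f g).stalkMap z) rfl
  haveI := isLocalHom_pt (ptY f g z k2) (X := Y') (Inseparable.of_eq k2).specializes (Inseparable.of_eq k2).specializes' ((pullback.snd f g).stalkMap z) rfl
  have hqB : q.asIdeal.comap (Algebra.TensorProduct.includeLeftRingHom : B →+* B ⊗[K] C) = maximalIdeal B := by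
    show (maximalIdeal _).comap (inl K B C ≫ π).hom = _
    rw [hπX]
    exact maximalIdeal_comap _
  have hqC : q.asIdeal.comap (Algebra.TensorProduct.includeRight : C →ₐ[K] B ⊗[K] C) = maximalIdeal C := by
    show (maximalIdeal _).comap (inr K B C ≫ π).hom = _
    rw [hπY]
    exact maximalIdeal_comap _
  by_contra hne
  have hann : ∀ s : B ⊗[K] C, s • fibreSum (A := K) (B := B) M c e = 0 → s ∈ q.asIdeal := fun s hs =>
    mem_of_smul_eq_zero_primary M hprim _ (fun h0 => hne (sum_residue_tmul_eq_zero M c e h0)) s hs q.asIdeal hqB hqC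
  have h1 : pullback.fst f g (jm P) = x := by rw [hP]; exact k1
  have h2 : pullback.snd f g (jm P) = y' := by rw [hP]; exact k2
  have hz' : ∀ (z' : ↑(pullback f g)), z' = z → ∀ (l1 : pullback.fst f g z' = x) (l2 : pullback.snd f g z' = y'),
      letI := (ptX f g z' l1).hom.toAlgebra
      ∑ j, (ptY f g z' l2).hom (c j) ⊗ₜ[X.presheaf.stalk x] e j ∈
        ((maximalIdeal (Y'.presheaf.stalk y')).map (ptY f g z' l2).hom • ⊤ :
          Submodule ((pullback f g).presheaf.stalk z')
            ((pullback f g).presheaf.stalk z' ⊗[X.presheaf.stalk x] F.presheaf.stalk x)) := by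
    rintro _ rfl _ _
    exact hz
  let S := (Spec R).presheaf.stalk P
  let ts : R ⟶ S := StructureSheaf.toStalk (B ⊗[K] C) P
  have hts : Spec.map ts = (Spec R).fromSpecStalk P := (Spec.fromSpecStalk_eq' R P).symm
  let σ := jm.stalkMap P
  have hX : ptX f g (jm P) h1 ≫ σ = inl K B C ≫ ts := by
    apply Spec.map_injective
    rw [← cancel_mono (X.fromSpecStalk x), Spec.map_comp, Spec.map_comp, Category.assoc, specMap_ptX,
      reassoc_of% (Scheme.SpecMap_stalkMap_fromSpecStalk jm (x := P)), hjf, hts, Category.assoc]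
  have hY : ptY f g (jm P) h2 ≫ σ = inr K B C ≫ ts := by
    apply Spec.map_injective
    rw [← cancel_mono (Y'.fromSpecStalk y'), Spec.map_comp, Spec.map_comp, Category.assoc, specMap_ptY,
      reassoc_of% (Scheme.SpecMap_stalkMap_fromSpecStalk jm (x := P)), hjs, hts, Category.assoc]
  letI : Algebra (B ⊗[K] C) S := ts.hom.toAlgebra
  haveI : IsLocalization.AtPrime S q.asIdeal := StructureSheaf.IsLocalization.to_stalk (B ⊗[K] C) q
  letI : Algebra B S := (ts.hom.comp Algebra.TensorProduct.includeLeftRingHom).toAlgebra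
  haveI : IsScalarTower B (B ⊗[K] C) S := IsScalarTower.of_algebraMap_eq fun r => rfl
  haveI : Module.Flat (B ⊗[K] C) S := IsLocalization.flat S q.asIdeal.primeCompl
  refine fibreSum_not_mem (A := K) (B := B) (C := C) M S c e
    (fun s hs => (IsLocalization.AtPrime.to_map_mem_maximal_iff S q.asIdeal s).2 (hann s hs)) ?_
  letI := (ptX f g (jm P) h1).hom.toAlgebra
  let σl : (pullback f g).presheaf.stalk (jm P) →ₗ[B] S :=
    { toFun := σ.hom
      map_add' := map_add σ.hom
      map_smul' := fun r s => by
        rw [Algebra.smul_def, map_mul, RingHom.id_apply, Algebra.smul_def]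
        exact congrArg (· * _) (ConcreteCategory.congr_hom hX r) }
  let L := σl.rTensor M
  have hL : ∀ r y, L (r • y) = σ.hom r • L y := fun r y => by
    induction y using TensorProduct.induction_on with
    | zero => simp
    | add a b ha hb => rw [smul_add, map_add, map_add, ha, hb, smul_add]
    | tmul s m =>
      rw [TensorProduct.smul_tmul', smul_eq_mul, LinearMap.rTensor_tmul, LinearMap.rTensor_tmul,
        TensorProduct.smul_tmul', smul_eq_mul]
      exact congrArg (· ⊗ₜ[B] m) (map_mul σ.hom r s)
  have hI : ((maximalIdeal C).map (ptY f g (jm P) h2).hom).map σ.hom ≤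
      (topIdeal (A := K) (B := B) (C := C)).map (algebraMap (B ⊗[K] C) S) := by
    rw [Ideal.map_map, Ideal.map_le_iff_le_comap]
    intro r hr
    rw [Ideal.mem_comap, RingHom.comp_apply]
    erw [ConcreteCategory.congr_hom hY r]
    exact Ideal.mem_map_of_mem _ (Ideal.mem_map_of_mem _ hr)
  have hmem : ∀ y ∈ (((maximalIdeal C).map (ptY f g (jm P) h2).hom) • ⊤ :
      Submodule ((pullback f g).presheaf.stalk (jm P)) _), L y ∈
      ((topIdeal (A := K) (B := B) (C := C)).map (algebraMap (B ⊗[K] C) S) • ⊤ : Submodule S (S ⊗[B] M)) := fun y hy => by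
    refine Submodule.smul_induction_on hy (fun r hr y _ => ?_) fun a b ha hb => by rw [map_add]; exact add_mem ha hb
    rw [hL]
    exact Submodule.smul_mem_smul (hI (Ideal.mem_map_of_mem _ hr)) trivial
  have hfin := hmem _ (hz' (jm P) hP h1 h2)
  rw [map_sum] at hfin
  convert hfin using 1
  refine Finset.sum_congr rfl fun j _ => ?_
  rw [LinearMap.rTensor_tmul]
  exact congrArg (· ⊗ₜ[B] e j) (ConcreteCategory.congr_hom hY (c j)).symm

end Groth.Agent.EGA43.FlatBC
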