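import Groth.Agent.EGA43.FlatBC.Algebra
import Mathlib.RingTheory.Spectrum.Prime.Topology
import Mathlib.RingTheory.Ideal.Quotient.ChineseRemainder
import Mathlib.RingTheory.Flat.Localization
import Mathlib.RingTheory.Flat.Stability
import Mathlib.RingTheory.Spectrum.Maximal.Basic
import Mathlib.RingTheory.Jacobson.Ideal
import Mathlib.LinearAlgebra.TensorProduct.Tower

/-!
# EGA IV 11.4.5: semi-local rings with nilpotent radical
-/

set_option autoImplicit false
set_option backward.isDefEq.respectTransparency false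
set_option linter.style.haveILetI false

universe u

namespace Groth.Agent.EGA43.FlatBC

open TensorProduct IsLocalRing Function

section Idem

variable {A : Type u} [CommRing A] [Finite (MaximalSpectrum A)]

theorem isMaximal_of_isPrime_semilocal (hnil : IsNilpotent (Ring.jacobson A)) (p : Ideal A) [p.IsPrime] :
    p.IsMaximal := by
  have := Fintype.ofFinite (MaximalSpectrum A)
  obtain ⟨n, hn⟩ := hnil
  have h1 : (Finset.univ : Finset (MaximalSpectrum A)).inf (fun m => m.asIdeal) ≤ p := by
    intro a ha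
    refine Ideal.IsPrime.mem_of_pow_mem ‹_› n ?_
    have hj : a ∈ Ring.jacobson A := by
      rw [Ring.jacobson_eq_sInf_isMaximal, Submodule.mem_sInf]
      intro m hm
      rw [Submodule.mem_finsetInf] at ha
      exact ha ⟨m, hm⟩ (Finset.mem_univ _)
    have := Ideal.pow_mem_pow hj n
    rw [hn] at this
    rw [Ideal.mem_bot.1 this]
    exact p.zero_mem
  obtain ⟨m, -, hm⟩ := (Ideal.IsPrime.inf_le' (hp := ‹_›)).1 h1
  rw [← m.isMaximal.eq_of_le (Ideal.IsPrime.ne_top ‹_›) hm]
  exact m.isMaximal

theorem exists_idempotent_separating (hnil : IsNilpotent (Ring.jacobson A)) (m : MaximalSpectrum A) :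
    ∃ e : A, IsIdempotentElem e ∧ ∀ p : PrimeSpectrum A, e ∉ p.asIdeal ↔ p.asIdeal = m.asIdeal := by
  have hmax : ∀ p : PrimeSpectrum A, p.asIdeal.IsMaximal := fun p => isMaximal_of_isPrime_semilocal hnil p.asIdeal
  haveI : Finite (PrimeSpectrum A) := Finite.of_injective
    (fun p => (⟨p.asIdeal, hmax p⟩ : MaximalSpectrum A)) fun p q h => PrimeSpectrum.ext (congrArg MaximalSpectrum.asIdeal h)
  haveI : T1Space (PrimeSpectrum A) := ⟨fun p => (PrimeSpectrum.isClosed_singleton_iff_isMaximal p).2 (hmax p)⟩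
  haveI : DiscreteTopology (PrimeSpectrum A) := Finite.instDiscreteTopology
  obtain ⟨e, he, hs⟩ := PrimeSpectrum.exists_idempotent_basicOpen_eq_of_isClopen
    (isClopen_discrete ({⟨m.asIdeal, m.isMaximal.isPrime⟩} : Set (PrimeSpectrum A)))
  refine ⟨e, he, fun p => ?_⟩
  have := Set.ext_iff.1 hs p
  rw [Set.mem_singleton_iff] at this
  exact ⟨fun h => congrArg PrimeSpectrum.asIdeal (this.2 h), fun h => this.1 (PrimeSpectrum.ext h)⟩

theorem flat_quotient_idempotent (e : A) (he : IsIdempotentElem e) : Module.Flat A (A ⧸ Ideal.span {1 - e}) := by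
  refine Module.Flat.of_retract (M := A) ((Ideal.span {1 - e}).liftQ (LinearMap.mul A A e) ?_)
    (Submodule.mkQ _) ?_
  · rw [Ideal.span, Submodule.span_singleton_le_iff_mem, LinearMap.mem_ker, LinearMap.mul_apply', mul_sub, mul_one,
      he.eq, sub_self]
  · refine LinearMap.ext fun x => ?_
    obtain ⟨r, rfl⟩ := Submodule.Quotient.mk_surjective _ x
    show Submodule.Quotient.mk (e * r) = Submodule.Quotient.mk r
    rw [Submodule.Quotient.eq, Ideal.mem_span_singleton']
    exact ⟨-r, by ring⟩

end Idem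

variable {A : Type u} [CommRing A]

/-- Flatness of one local factor. -/
theorem flat_factor_of_family (m : Ideal A) [m.IsMaximal] (e : A) (he : IsIdempotentElem e)
    (hem : ∀ p : PrimeSpectrum A, e ∉ p.asIdeal ↔ p.asIdeal = m) (hnil : IsNilpotent (Ring.jacobson A))
    {ι : Type u} (B : ι → Type u) [∀ i, CommRing (B i)] [∀ i, Algebra A (B i)]
    (hB : ∀ a : A, (∀ i, algebraMap A (B i) a = 0) → a = 0)
    (M : Type u) [AddCommGroup M] [Module A M] [∀ i, Module.Flat (B i) (B i ⊗[A] M)] :
    Module.Flat (A ⧸ Ideal.span {1 - e}) ((A ⧸ Ideal.span {1 - e}) ⊗[A] M) := by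
  set I := Ideal.span {1 - e} with hI
  have hIm : I ≤ m := by
    rw [hI, Ideal.span_le, Set.singleton_subset_iff]
    have h1 : e * (1 - e) = 0 := by rw [mul_sub, mul_one, he.eq, sub_self]
    exact ((‹m.IsMaximal›.isPrime).mem_or_mem (h1 ▸ m.zero_mem)).resolve_left ((hem ⟨m, ‹m.IsMaximal›.isPrime⟩).2 rfl)
  let A' := A ⧸ I
  have huniq : ∀ n : Ideal A', n.IsMaximal → n = m.map (Ideal.Quotient.mk I) := fun n hn => by
    haveI := hn.isPrime
    have h1 : n.comap (Ideal.Quotient.mk I) = m := (hem ⟨_, Ideal.IsPrime.comap _⟩).1 fun h2 => by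
      apply hn.ne_top
      rw [Ideal.eq_top_iff_one]
      have : Ideal.Quotient.mk I e = 1 := by
        rw [← map_one (Ideal.Quotient.mk I), Ideal.Quotient.eq]
        exact hI ▸ Ideal.mem_span_singleton'.2 ⟨-1, by ring⟩
      rw [← this]
      exact h2
    rw [← h1, Ideal.map_comap_of_surjective _ Ideal.Quotient.mk_surjective]
  have hprop : (m.map (Ideal.Quotient.mk I)) ≠ ⊤ := fun h => ‹m.IsMaximal›.ne_top <| by
    rw [← top_le_iff, ← Ideal.comap_top (f := Ideal.Quotient.mk I), ← h,
      Ideal.comap_map_of_surjective _ Ideal.Quotient.mk_surjective, ← RingHom.ker_eq_comap_bot, Ideal.mk_ker]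
    exact sup_le le_rfl hIm
  haveI : Nontrivial A' := Ideal.Quotient.nontrivial_iff.2 fun h => ‹m.IsMaximal›.ne_top (top_le_iff.1 (h ▸ hIm))
  haveI : IsLocalRing A' := IsLocalRing.of_unique_max_ideal <| by
    obtain ⟨n, hn, -⟩ := Ideal.exists_le_maximal _ hprop
    exact ⟨n, hn, fun n' hn' => (huniq n' hn').trans (huniq n hn).symm⟩
  have hnil' : IsNilpotent (maximalIdeal A') := by
    obtain ⟨k, hk⟩ := hnil
    refine ⟨k, ?_⟩
    have hle : maximalIdeal A' ≤ (Ring.jacobson A).map (Ideal.Quotient.mk I) := by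
      rw [huniq _ (maximalIdeal.isMaximal A'), Ideal.map_le_iff_le_comap]
      intro r hr
      refine Ideal.mem_comap.2 ?_
      have h1 : Ideal.Quotient.mk I r = Ideal.Quotient.mk I (e * r) := by
        rw [Ideal.Quotient.eq, hI]
        exact Ideal.mem_span_singleton'.2 ⟨r, by ring⟩
      rw [h1]
      refine Ideal.mem_map_of_mem _ ?_
      rw [Ring.jacobson_eq_sInf_isMaximal, Submodule.mem_sInf]
      intro n hn
      by_cases hnm : n = m
      · subst hnm; exact Ideal.mul_mem_left n _ hr
      · exact Ideal.mul_mem_right (I := n) _ (not_not.1 fun h => hnm ((hem ⟨n, hn.isPrime⟩).1 h))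
    exact le_bot_iff.1 ((Ideal.pow_right_mono hle k).trans (by rw [← Ideal.map_pow, hk]; simp))
  -- the test rings
  let J : Type u := Σ i, {q : PrimeSpectrum (B i) // q.asIdeal.comap (algebraMap A (B i)) = m}
  let C : J → Type u := fun j => Localization.AtPrime j.2.1.asIdeal
  have hker : ∀ j : J, ∀ r ∈ I, algebraMap A (C j) r = 0 := fun j r hr => by
    obtain ⟨c, rfl⟩ := Ideal.mem_span_singleton'.1 (hI ▸ hr)
    have h1 : IsIdempotentElem (algebraMap A (C j) (1 - e)) := he.one_sub.map _
    have h2 : algebraMap A (C j) (1 - e) ∈ maximalIdeal (C j) := by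
      rw [IsScalarTower.algebraMap_apply A (B j.1) (C j), IsLocalization.AtPrime.to_map_mem_maximal_iff (C j) j.2.1.asIdeal,
        ← Ideal.mem_comap, j.2.2]
      exact hIm (hI ▸ Ideal.mem_span_singleton_self _)
    have h3 : algebraMap A (C j) (1 - e) = 0 := by
      rcases (IsLocalRing.isUnit_or_isUnit_one_sub_self (algebraMap A (C j) (1 - e))) with hu | hu
      · exact absurd hu h2
      · exact hu.mul_left_eq_zero.1 (by rw [mul_sub, mul_one, h1.eq, sub_self])
    rw [map_mul, h3, mul_zero]
  letI : ∀ j : J, Algebra A' (C j) := fun j => (Ideal.Quotient.lift I (algebraMap A (C j)) (hker j)).toAlgebra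
  haveI : ∀ j : J, IsScalarTower A A' (C j) := fun j => IsScalarTower.of_algebraMap_eq fun r => rfl
  haveI : ∀ j : J, Module.Flat (C j) (C j ⊗[A] M) := fun j =>
    Module.Flat.of_linearEquiv (AlgebraTensorModule.cancelBaseChange A (B j.1) (C j) (C j) M).symm
  refine flat_of_family hnil' (A' ⊗[A] M) C (fun a ha => ?_) (Z := fun _ => PUnit.{1})
    (fun j _ => C j ⊗[A] M)
    (fun j _ => AlgebraTensorModule.map (Algebra.linearMap A' (C j)) (LinearMap.id (R := A) (M := M))) ?_
  · obtain ⟨a, rfl⟩ := Ideal.Quotient.mk_surjective a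
    have hea : e * a = 0 := hB _ fun i => by
      let T : Ideal (B i) := (⊥ : Ideal (B i)).colon {algebraMap A (B i) a}
      have hT : ∀ s, s ∈ T ↔ s * algebraMap A (B i) a = 0 := fun s => by
        rw [Submodule.mem_colon_singleton, Ideal.mem_bot, smul_eq_mul]
      have hrad : algebraMap A (B i) e ∈ T.radical := by
        rw [Ideal.radical_eq_sInf, Submodule.mem_sInf]
        rintro q ⟨hTq, hq⟩
        haveI := hq
        by_cases hqm : Ideal.comap (algebraMap A (B i)) q = m
        · exfalso
          have h1 := ha ⟨i, ⟨q, hq⟩, hqm⟩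
          change algebraMap A (Localization.AtPrime q) a = 0 at h1
          rw [IsScalarTower.algebraMap_apply A (B i) (Localization.AtPrime q),
            IsLocalization.map_eq_zero_iff (Ideal.primeCompl q)] at h1
          obtain ⟨⟨s, hs⟩, hs'⟩ := h1
          exact hs (hTq ((hT s).2 hs'))
        · exact not_not.1 fun h => hqm ((hem ⟨_, Ideal.IsPrime.comap _⟩).1 h)
      obtain ⟨n, hn⟩ := hrad
      rw [map_mul, ← hT]
      rcases n with _ | n
      · rw [pow_zero] at hn; exact T.eq_top_iff_one.2 hn ▸ trivial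
      · rwa [(he.map (algebraMap A (B i))).pow_succ_eq n] at hn
    rw [Ideal.Quotient.eq_zero_iff_mem, hI]
    exact Ideal.mem_span_singleton'.2 ⟨a, by linear_combination (-1 : A) * hea⟩
  · intro j K _ a v hv
    let θ : C j ⊗[A] M →ₗ[C j] ResidueField (C j) ⊗[A] M :=
      AlgebraTensorModule.map (Algebra.linearMap (C j) (ResidueField (C j))) (LinearMap.id (R := A) (M := M))
    have hθ : ∀ x ∈ (maximalIdeal (C j) • ⊤ : Submodule (C j) (C j ⊗[A] M)), θ x = 0 := fun x hx => by
      refine Submodule.smul_induction_on hx (fun r hr y _ => ?_) fun a b ha hb => by rw [map_add, ha, hb, add_zero]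
      rw [map_smul, ← algebraMap_smul (ResidueField (C j)) r (θ y), IsLocalRing.ResidueField.algebraMap_eq,
        (residue_eq_zero_iff r).2 hr, zero_smul]
    have h1 := hθ _ (hv PUnit.unit)
    apply (AlgebraTensorModule.cancelBaseChange A A' (ResidueField (C j)) (ResidueField (C j)) M).injective
    rw [map_zero, ← h1, map_sum, map_sum]
    refine Finset.sum_congr rfl fun l _ => ?_
    generalize v l = x
    induction x using TensorProduct.induction_on with
    | zero => simp
    | add x y hx hy => rw [TensorProduct.tmul_add, map_add, map_add, smul_add, map_add, hx, hy]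
    | tmul r x =>
      rw [AlgebraTensorModule.cancelBaseChange_tmul]
      simp only [θ, AlgebraTensorModule.map_tmul, LinearMap.id_apply, TensorProduct.smul_tmul', Algebra.linearMap_apply,
        smul_eq_mul, map_mul]
      congr 1
      rw [Algebra.smul_def, mul_comm]
      rfl

/-- EGA IV 11.4.5. -/
theorem flat_iff_forall_flat_baseChange [Finite (MaximalSpectrum A)] (hnil : IsNilpotent (Ring.jacobson A))
    {ι : Type u} (B : ι → Type u) [∀ i, CommRing (B i)] [∀ i, Algebra A (B i)]
    (hB : ∀ a : A, (∀ i, algebraMap A (B i) a = 0) → a = 0)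
    (M : Type u) [AddCommGroup M] [Module A M] :
    Module.Flat A M ↔ ∀ i, Module.Flat (B i) (B i ⊗[A] M) := by
  refine ⟨fun _ i => inferInstance, fun h => ?_⟩
  have := h
  choose e he hem using fun m : MaximalSpectrum A => exists_idempotent_separating hnil m
  let I : MaximalSpectrum A → Ideal A := fun m => Ideal.span {1 - e m}
  have hI1 : ∀ (m : MaximalSpectrum A) (p : PrimeSpectrum A), I m ≤ p.asIdeal → p.asIdeal = m.asIdeal := fun m p hp =>
    (hem m p).1 fun h => p.isPrime.ne_top <| by
      rw [Ideal.eq_top_iff_one, show (1 : A) = (1 - e m) + e m by ring]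
      exact add_mem (hp (Ideal.mem_span_singleton_self _)) h
  have hcop : Pairwise fun m n => IsCoprime (I m) (I n) := fun m n hmn => by
    show IsCoprime (I m) (I n)
    rw [Ideal.isCoprime_iff_sup_eq]
    by_contra hne
    obtain ⟨p, hp, hle⟩ := Ideal.exists_le_maximal _ hne
    exact hmn (MaximalSpectrum.ext ((hI1 m ⟨p, hp.isPrime⟩ (le_sup_left.trans hle)).symm.trans
      (hI1 n ⟨p, hp.isPrime⟩ (le_sup_right.trans hle))))
  have hinf : ⨅ m, I m = ⊥ := by
    rw [eq_bot_iff]
    intro a ha
    rw [Submodule.mem_iInf] at ha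
    rw [Ideal.mem_bot]
    let T : Ideal A := (⊥ : Ideal A).colon {a}
    suffices T = ⊤ by
      have h1 : (1 : A) ∈ T := this ▸ trivial
      rwa [Submodule.mem_colon_singleton, one_smul, Ideal.mem_bot] at h1
    by_contra hne
    obtain ⟨p, hp, hle⟩ := Ideal.exists_le_maximal _ hne
    refine (hem ⟨p, hp⟩ ⟨p, hp.isPrime⟩).2 rfl (hle ?_)
    obtain ⟨c, hc⟩ := Ideal.mem_span_singleton'.1 (ha ⟨p, hp⟩)
    rw [Submodule.mem_colon_singleton, Ideal.mem_bot, smul_eq_mul, ← hc,
      show e ⟨p, hp⟩ * (c * (1 - e ⟨p, hp⟩)) = c * (e ⟨p, hp⟩ - e ⟨p, hp⟩ * e ⟨p, hp⟩) by ring, (he _).eq,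
      sub_self, mul_zero]
  have hbij : Bijective (LinearMap.pi fun m => TensorProduct.mk A (A ⧸ I m) M 1) := by
    refine ⟨?_, Ideal.pi_tensorProductMk_quotient_surjective M I hcop⟩
    rw [← LinearMap.ker_eq_bot, Ideal.ker_tensorProductMk_quotient M I hcop, hinf, Submodule.bot_smul]
  haveI : ∀ m, Module.Flat A ((A ⧸ I m) ⊗[A] M) := fun m => by
    haveI := flat_quotient_idempotent (e m) (he m)
    haveI := m.isMaximal
    haveI := flat_factor_of_family m.asIdeal (e m) (he m) (hem m) hnil B hB M
    exact Module.Flat.trans A (A ⧸ I m) _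
  haveI := flat_pi_of_finite (R := A) (fun m => (A ⧸ I m) ⊗[A] M)
  exact Module.Flat.of_linearEquiv (LinearEquiv.ofBijective _ hbij)

end Groth.Agent.EGA43.FlatBC
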